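import Groth.Agent.TateLoc.K809.KerDer
import Groth.Agent.TateLoc.K809.CaLocal
import Groth.Prelude.Def_Red

/-!
# Points of a group scheme with values in affine schemes over a chart of the base
-/

set_option autoImplicit false
set_option linter.style.haveILetI false
set_option linter.unusedSectionVars false

universe u

open CategoryTheory CategoryTheory.Limits AlgebraicGeometry Opposite MonObj
open Groth.Agent.Books.AffBridge K809.KerGrp Groth.Agent.Sga3B.BcPts

namespace K186.AffPt

variable {T : Scheme.{u}} {A : Type u} [CommRing A] (f : Spec (CommRingCat.of A) ⟶ T)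

/-- affine schemes over the chart -/
structure Ob where
  /-- the scheme -/
  X : Over T
  aff : IsAffine X.left
  /-- the morphism to the chart -/
  u : X ⟶ Over.mk f

variable {f}

/-- functions -/
def Ob.S (X : Ob f) : Type u := Γ(X.X.left, ⊤)

instance (X : Ob f) : CommRing X.S := inferInstanceAs (CommRing Γ(X.X.left, ⊤))

/-- the morphism to the chart -/
noncomputable def Ob.ul (X : Ob f) : X.X.left ⟶ Spec (CommRingCat.of A) := X.u.left

/-- structure map -/
noncomputable def Ob.str (X : Ob f) : CommRingCat.of A ⟶ Γ(X.X.left, ⊤) :=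
  (Scheme.ΓSpecIso (CommRingCat.of A)).inv ≫ X.ul.appTop

noncomputable instance (X : Ob f) : Algebra A X.S := X.str.hom.toAlgebra

lemma toSpecΓ_str (X : Ob f) : X.X.left.toSpecΓ ≫ Spec.map X.str = X.ul := by
  rw [Ob.str, Spec.map_comp, ← Scheme.toSpecΓ_naturality_assoc, toSpecΓ_SpecMap_ΓSpecIso_inv, Category.comp_id]

lemma ul_f (X : Ob f) : X.ul ≫ f = X.X.hom := Over.w X.u

/-- The scheme is the spectrum of its functions. -/
noncomputable def toSp (X : Ob f) : X.X ≅ (Over.map f).obj (SpecOver A X.S) :=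
  have := X.aff
  let e : X.X.left ≅ ((Over.map f).obj (SpecOver A X.S)).left := X.X.left.isoSpec
  Over.isoMk e (by
    have h := toSpecΓ_str X
    change X.X.left.toSpecΓ ≫ Spec.map X.str ≫ f = X.X.hom
    rw [reassoc_of% h, ul_f])

lemma toSp_hom_left (X : Ob f) : (toSp X).hom.left = X.X.left.toSpecΓ := rfl

section mono

variable [Mono f]

lemma u_comp {X Y : Ob f} (g : X.X ⟶ Y.X) : g ≫ Y.u = X.u := by
  ext1
  rw [← cancel_mono f]
  have h1 := Over.w X.u
  have h2 := Over.w Y.u
  change X.u.left ≫ f = X.X.hom at h1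
  change Y.u.left ≫ f = Y.X.hom at h2
  rw [Over.comp_left, Category.assoc, h1, h2]
  exact Over.w g

lemma comp_ul {X Y : Ob f} (g : X.X ⟶ Y.X) : g.left ≫ Y.ul = X.ul := congrArg (fun t => t.left) (u_comp g)

/-- pullback of functions -/
noncomputable def pull {X Y : Ob f} (g : X.X ⟶ Y.X) : Y.S →ₐ[A] X.S where
  __ := g.left.appTop.hom
  commutes' a := by
    have h : Y.str ≫ g.left.appTop = X.str := by
      rw [Ob.str, Ob.str, ← comp_ul g, Scheme.Hom.comp_appTop, Category.assoc]
    exact congrArg (fun φ => φ.hom a) h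

lemma pull_apply {X Y : Ob f} (g : X.X ⟶ Y.X) (a : Y.S) : pull g a = g.left.appTop.hom a := rfl

lemma pull_comp {X Y Z : Ob f} (g : X.X ⟶ Y.X) (h : Y.X ⟶ Z.X) : (pull g).comp (pull h) = pull (g ≫ h) := by
  ext a
  change g.left.appTop.hom (h.left.appTop.hom a) = (g ≫ h).left.appTop.hom a
  rw [Over.comp_left, Scheme.Hom.comp_appTop]
  rfl

lemma pull_id (X : Ob f) : pull (𝟙 X.X) = AlgHom.id A X.S := by
  ext a
  change (𝟙 X.X : X.X ⟶ X.X).left.appTop.hom a = a
  rw [Over.id_left, Scheme.Hom.id_appTop]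
  rfl

lemma toSp_naturality {X Y : Ob f} (g : X.X ⟶ Y.X) :
    (toSp X).hom ≫ (Over.map f).map (specMap A (pull g)) = g ≫ (toSp Y).hom := by
  ext1
  exact (Scheme.toSpecΓ_naturality g.left).symm

variable (G : Over T) [GrpObj G]

/-- Points with values in an affine scheme over a chart. -/
noncomputable def κ (X : Ob f) : Additive (X.X ⟶ G) ≃+ Pt (Red.bc f G) X.S where
  toFun x := Additive.ofMul (bcEquiv f (SpecOver A X.S) G ((toSp X).inv ≫ x.toMul))
  invFun y := Additive.ofMul ((toSp X).hom ≫ (bcEquiv f (SpecOver A X.S) G).symm y.toMul)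
  left_inv x := by
    apply Additive.toMul.injective
    change (toSp X).hom ≫ (bcEquiv f (SpecOver A X.S) G).symm (bcEquiv f (SpecOver A X.S) G ((toSp X).inv ≫ x.toMul)) = _
    rw [Equiv.symm_apply_apply, Iso.hom_inv_id_assoc]
  right_inv y := by
    apply Additive.toMul.injective
    change bcEquiv f (SpecOver A X.S) G ((toSp X).inv ≫ (toSp X).hom ≫ (bcEquiv f (SpecOver A X.S) G).symm y.toMul) = _
    rw [Iso.inv_hom_id_assoc, Equiv.apply_symm_apply]
  map_add' x y := by
    apply Additive.toMul.injective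
    change bcEquiv f (SpecOver A X.S) G ((toSp X).inv ≫ (x.toMul * y.toMul)) =
      bcEquiv f (SpecOver A X.S) G ((toSp X).inv ≫ x.toMul) * bcEquiv f (SpecOver A X.S) G ((toSp X).inv ≫ y.toMul)
    rw [MonObj.comp_mul, bcEquiv_mul]

lemma κ_comp {X Y : Ob f} (g : X.X ⟶ Y.X) (y : Additive (Y.X ⟶ G)) :
    κ G X (Additive.ofMul (g ≫ y.toMul)) = res (pull g) (κ G Y y) := by
  apply Additive.toMul.injective
  change bcEquiv f (SpecOver A X.S) G ((toSp X).inv ≫ g ≫ y.toMul) =
    specMap A (pull g) ≫ bcEquiv f (SpecOver A Y.S) G ((toSp Y).inv ≫ y.toMul)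
  rw [← comp_bcEquiv]
  congr 1
  rw [Iso.inv_comp_eq, ← Category.assoc, toSp_naturality, Category.assoc, Iso.hom_inv_id_assoc]

end mono

end K186.AffPt
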