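import Groth.Agent.CGrpSh.K186.RD
import Groth.Agent.CGrpSh.K186.AffPt

/-!
# Infinitesimal thickenings `U ×_T P` of `T`-schemes `U` over a chart of `T`
-/

set_option autoImplicit false
set_option linter.style.haveILetI false
set_option linter.unusedSectionVars false

universe u

open CategoryTheory CategoryTheory.Limits AlgebraicGeometry Opposite
open Groth.Agent.Etbase.FFExact K186.BCAlg K186.Pinch K186.RD K186.AffPt

namespace K186.Geo

variable {T P : Scheme.{u}} (π : P ⟶ T)

/-- base change along `π` followed by composition with `π` -/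
noncomputable abbrev EE : Over T ⥤ Over T := Over.pullback π ⋙ Over.map π

/-- the projection -/
noncomputable abbrev pN : EE π ⟶ 𝟭 (Over T) := (Over.mapPullbackAdj π).counit

lemma pN_left (U : Over T) : ((pN π).app U).left = pullback.fst U.hom π := by
  simp

lemma EE_map_fst {U V : Over T} (g : U ⟶ V) :
    ((EE π).map g).left ≫ pullback.fst V.hom π = pullback.fst U.hom π ≫ g.left :=
  pullback.lift_fst _ _ _

lemma EE_map_snd {U V : Over T} (g : U ⟶ V) :
    ((EE π).map g).left ≫ pullback.snd V.hom π = pullback.snd U.hom π :=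
  pullback.lift_snd _ _ _

section sec

variable {π} (s : T ⟶ P) (hs : s ≫ π = 𝟙 T)

/-- the section over `U` -/
noncomputable def secL (U : Over T) : U.left ⟶ pullback U.hom π :=
  pullback.lift (𝟙 _) (U.hom ≫ s) (by rw [Category.assoc, hs, Category.comp_id, Category.id_comp])

@[reassoc]
lemma secL_fst (U : Over T) : secL s hs U ≫ pullback.fst U.hom π = 𝟙 _ := pullback.lift_fst _ _ _

@[reassoc]
lemma secL_snd (U : Over T) : secL s hs U ≫ pullback.snd U.hom π = U.hom ≫ s := pullback.lift_snd _ _ _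

/-- a section of `π` gives sections of all base changes -/
noncomputable def sec : 𝟭 (Over T) ⟶ EE π where
  app U := Over.homMk (secL s hs U) (by
    change secL s hs U ≫ pullback.snd U.hom π ≫ π = U.hom
    rw [secL_snd_assoc, hs, Category.comp_id])
  naturality U V g := by
    ext1
    refine pullback.hom_ext ?_ ?_
    · change (g.left ≫ secL s hs V) ≫ pullback.fst V.hom π = (secL s hs U ≫ ((EE π).map g).left) ≫ pullback.fst V.hom π
      rw [Category.assoc, Category.assoc, secL_fst, EE_map_fst, secL_fst_assoc]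
      exact Category.comp_id _
    · change (g.left ≫ secL s hs V) ≫ pullback.snd V.hom π = (secL s hs U ≫ ((EE π).map g).left) ≫ pullback.snd V.hom π
      rw [Category.assoc, Category.assoc, secL_snd, EE_map_snd, secL_snd, ← Category.assoc, Over.w g]

lemma sec_left (U : Over T) : ((sec s hs).app U).left = secL s hs U := rfl

@[reassoc (attr := simp)]
lemma sec_pN (U : Over T) : (sec s hs).app U ≫ (pN π).app U = 𝟙 U := by
  ext1
  rw [Over.comp_left, pN_left, sec_left, secL_fst]
  rfl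

end sec

section chart

variable {π} {σ τ : T ⟶ P} (hσ : σ ≫ π = 𝟙 T) (hτ : τ ≫ π = 𝟙 T) {A : Type u} [CommRing A]
  (f : Spec (CommRingCat.of A) ⟶ T) (a : Ideal A)

variable (π σ τ) in
/-- `P` is the spectrum of `PR a` over the chart -/
structure Chart where
  /-- the chart of `P` -/
  ι : Spec (CommRingCat.of (PR a)) ⟶ P
  pb : IsPullback ι (Spec.map (CommRingCat.ofHom (dg a))) π f
  hσ : f ≫ σ = Spec.map (CommRingCat.ofHom (p₁ a)) ≫ ι
  hτ : f ≫ τ = Spec.map (CommRingCat.ofHom (p₂ a)) ≫ ι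

variable {f} {a}

variable (π) in
/-- the thickening -/
noncomputable def EOb [IsAffineHom π] (U : Ob f) : Ob f where
  X := (EE π).obj U.X
  aff := by
    have := U.aff
    exact inferInstanceAs (IsAffine (pullback U.X.hom π))
  u := (pN π).app U.X ≫ U.u

variable [IsAffineHom π] [Mono f] (c : Chart π σ τ f a) (U : Ob f)

section morphisms

variable (π)

/-- the projection -/
noncomputable def pE : (EOb π U).X ⟶ U.X := (pN π).app U.X

/-- the projection on schemes -/
noncomputable def E1 : (EOb π U).X.left ⟶ U.X.left := pullback.fst U.X.hom π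

/-- the projection to `P` -/
noncomputable def E2 : (EOb π U).X.left ⟶ P := pullback.snd U.X.hom π

lemma pE_left : (pE π U).left = E1 π U := pN_left π U.X

@[reassoc]
lemma E_w : E2 π U ≫ π = E1 π U ≫ U.X.hom := (pullback.condition (f := U.X.hom) (g := π)).symm

lemma E_isPullback : IsPullback (E2 π U) (E1 π U) π U.X.hom := (IsPullback.of_hasPullback U.X.hom π).flip

variable {U} {U' : Ob f} (g : U'.X ⟶ U.X)

/-- functoriality -/
noncomputable def gE : (EOb π U').X ⟶ (EOb π U).X := (EE π).map g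

@[reassoc]
lemma gE_fst : (gE π g).left ≫ E1 π U = E1 π U' ≫ g.left := EE_map_fst π g

@[reassoc]
lemma gE_snd : (gE π g).left ≫ E2 π U = E2 π U' := EE_map_snd π g

@[reassoc]
lemma gE_pE : gE π g ≫ pE π U = pE π U' ≫ g := (pN π).naturality g

variable {π} (s : T ⟶ P) (hs : s ≫ π = 𝟙 T)

variable (U) in
/-- the section -/
noncomputable def sE : U.X ⟶ (EOb π U).X := (sec s hs).app U.X

@[reassoc]
lemma sE_pE : sE U s hs ≫ pE π U = 𝟙 U.X := sec_pN s hs U.X

@[reassoc]
lemma sE_E1 : (sE U s hs).left ≫ E1 π U = 𝟙 _ := secL_fst s hs U.X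

@[reassoc]
lemma sE_E2 : (sE U s hs).left ≫ E2 π U = U.X.hom ≫ s := secL_snd s hs U.X

@[reassoc]
lemma sE_gE : g ≫ sE U s hs = sE U' s hs ≫ gE π g := (sec s hs).naturality g

end morphisms

/-- the map to the spectrum of `PR a` -/
noncomputable def Chart.x : (EOb π U).X.left ⟶ Spec (CommRingCat.of (PR a)) :=
  c.pb.lift (E2 π U) (E1 π U ≫ U.ul) (by
    rw [Category.assoc, ul_f, E_w])

@[reassoc]
lemma Chart.x_ι : c.x U ≫ c.ι = E2 π U := c.pb.lift_fst _ _ _

@[reassoc]
lemma Chart.x_dg : c.x U ≫ Spec.map (CommRingCat.ofHom (dg a)) = E1 π U ≫ U.ul := c.pb.lift_snd _ _ _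

lemma Chart.isPullback : IsPullback (c.x U) (E1 π U) (Spec.map (CommRingCat.ofHom (dg a))) U.ul := by
  refine IsPullback.of_right (h₁₂ := c.ι) (v₁₃ := π) (h₂₂ := f) ?_ (c.x_dg U) c.pb
  rw [c.x_ι, ul_f]
  exact E_isPullback π U

/-- the ring map -/
noncomputable def Chart.ψ : PR a →+* (EOb π U).S :=
  ((Scheme.ΓSpecIso (CommRingCat.of (PR a))).inv ≫ (c.x U).appTop).hom

variable (π) in
/-- pullback of functions to the thickening -/
noncomputable def βh : U.S →ₐ[A] (EOb π U).S := pull (pE π U)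

lemma βh_apply (b : U.S) : βh π U b = (E1 π U).appTop.hom b := by
  change (pE π U).left.appTop.hom b = _
  rw [pE_left]

lemma Chart.push : Push (dg a) (algebraMap A U.S) (c.ψ U) (βh π U).toRingHom := by
  have := U.aff
  have h := isPushout_appTop_of_isPullback (c.isPullback U)
  apply push_of_isPushout
  refine h.of_iso (Scheme.ΓSpecIso (CommRingCat.of A)) (Scheme.ΓSpecIso (CommRingCat.of (PR a)))
    (Iso.refl Γ(U.X.left, ⊤)) (Iso.refl Γ((EOb π U).X.left, ⊤)) ?_ ?_ ?_ ?_
  · exact Scheme.ΓSpecIso_naturality _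
  · change U.ul.appTop ≫ 𝟙 _ = (Scheme.ΓSpecIso (CommRingCat.of A)).hom ≫ (Scheme.ΓSpecIso (CommRingCat.of A)).inv ≫
      U.ul.appTop
    rw [Iso.hom_inv_id_assoc, Category.comp_id]
  · change (c.x U).appTop ≫ 𝟙 _ = (Scheme.ΓSpecIso (CommRingCat.of (PR a))).hom ≫
      (Scheme.ΓSpecIso (CommRingCat.of (PR a))).inv ≫ (c.x U).appTop
    rw [Iso.hom_inv_id_assoc, Category.comp_id]
  · change (E1 π U).appTop ≫ 𝟙 _ = 𝟙 _ ≫ (pE π U).left.appTop
    rw [pE_left, Category.comp_id]
    exact (Category.id_comp _).symm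

/-- pullback along a section -/
noncomputable def sh (s : T ⟶ P) (hs : s ≫ π = 𝟙 T) : (EOb π U).S →ₐ[A] U.S := pull (sE U s hs)

lemma sh_βh (s : T ⟶ P) (hs : s ≫ π = 𝟙 T) (b : U.S) : sh U s hs (βh π U b) = b := by
  have h := pull_comp (sE U s hs) (pE π U)
  rw [sE_pE, pull_id] at h
  exact DFunLike.congr_fun h b

lemma sE_x (s : T ⟶ P) (hs : s ≫ π = 𝟙 T) (q : PR a →+* A) (hq : q.comp (dg a) = RingHom.id A)
    (h : f ≫ s = Spec.map (CommRingCat.ofHom q) ≫ c.ι) :
    (sE U s hs).left ≫ c.x U = U.ul ≫ Spec.map (CommRingCat.ofHom q) := by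
  apply c.pb.hom_ext
  · rw [Category.assoc, Category.assoc, c.x_ι, sE_E2, ← h, ← Category.assoc, ul_f]
  · rw [Category.assoc, Category.assoc, c.x_dg, sE_E1_assoc, ← Spec.map_comp, ← CommRingCat.ofHom_comp, hq]
    change _ = U.ul ≫ Spec.map (𝟙 _)
    rw [Spec.map_id, Category.comp_id]

lemma sh_ψ (s : T ⟶ P) (hs : s ≫ π = 𝟙 T) (q : PR a →+* A) (hq : q.comp (dg a) = RingHom.id A)
    (h : f ≫ s = Spec.map (CommRingCat.ofHom q) ≫ c.ι) (z : PR a) : sh U s hs (c.ψ U z) = algebraMap A U.S (q z) := by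
  have h1 := sE_x c U s hs q hq h
  have h2 : (Scheme.ΓSpecIso (CommRingCat.of (PR a))).inv ≫ (c.x U).appTop ≫ (sE U s hs).left.appTop =
      CommRingCat.ofHom q ≫ (Scheme.ΓSpecIso (CommRingCat.of A)).inv ≫ U.ul.appTop := by
    rw [← Scheme.Hom.comp_appTop, h1, Scheme.Hom.comp_appTop, ← Category.assoc, ← Category.assoc,
      Scheme.ΓSpecIso_inv_naturality]
  exact DFunLike.congr_fun (congrArg CommRingCat.Hom.hom h2) z

/-- the ring data -/
noncomputable def dt : Dt a U.S (EOb π U).S where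
  β := βh π U
  s := sh U σ hσ
  t := sh U τ hτ
  sβ := sh_βh U σ hσ
  tβ := sh_βh U τ hτ
  ψ := c.ψ U
  sψ := sh_ψ c U σ hσ (p₁ a) rfl c.hσ
  tψ := sh_ψ c U τ hτ (p₂ a) rfl c.hτ
  push := c.push U

variable {U} {U' : Ob f}

lemma x_nat (g : U'.X ⟶ U.X) : (gE π g).left ≫ c.x U = c.x U' := by
  apply c.pb.hom_ext
  · rw [Category.assoc, c.x_ι, c.x_ι, gE_snd]
  · rw [Category.assoc, c.x_dg, c.x_dg, gE_fst_assoc, comp_ul]

/-- functoriality of the ring data -/
noncomputable def dtHom (g : U'.X ⟶ U.X) : Hom (dt hσ hτ c U) (dt hσ hτ c U') where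
  g := pull g
  h := pull (gE π g)
  hβ b := by
    have h1 := pull_comp (gE π g) (pE π U)
    rw [gE_pE, ← pull_comp] at h1
    exact DFunLike.congr_fun h1 b
  hs x := by
    have h1 := pull_comp g (sE U σ hσ)
    rw [sE_gE, ← pull_comp] at h1
    exact DFunLike.congr_fun h1.symm x
  hψ z := by
    have h1 : (Scheme.ΓSpecIso (CommRingCat.of (PR a))).inv ≫ (c.x U).appTop ≫ (gE π g).left.appTop =
        (Scheme.ΓSpecIso (CommRingCat.of (PR a))).inv ≫ (c.x U').appTop := by
      rw [← Scheme.Hom.comp_appTop, x_nat]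
    exact DFunLike.congr_fun (congrArg CommRingCat.Hom.hom h1) z

end chart

end K186.Geo
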