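import Groth.Agent.CGrpSh.K186.Geo
import Groth.Agent.BigSite.K186.ModExt
import Groth.Prelude.Def_CGrpSh
import Groth.Prelude.Def_BigSite2

/-!
# The abelian sheaf of infinitesimal points `U ↦ ker (G(U ×_T P) ⟶ G(U))`
-/

set_option autoImplicit false
set_option linter.style.haveILetI false
set_option linter.unusedSectionVars false

universe u

open CategoryTheory CategoryTheory.Limits AlgebraicGeometry Opposite MonObj
open Groth.Agent.Etbase.FFExact K186.BCAlg K186.Pinch K186.RD K186.AffPt K186.Geo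
open Groth.Agent.Books.AffBridge K809.KerGrp

namespace K186.Lie

section pts

variable {T : Scheme.{u}} (G : Over T) [GrpObj G] [IsCommMonObj G]
  {A : Type u} [CommRing A] {f : Spec (CommRingCat.of A) ⟶ T} [Mono f]

/-- points over an affine scheme over a chart -/
noncomputable def kU (X : Ob f) : (CGrpSh.ptsPre G).obj (op X.X) ≃+ Pt (Red.bc f G) X.S :=
  (AddEquiv.ulift : ULift.{u + 1} (Additive (X.X ⟶ G)) ≃+ Additive (X.X ⟶ G)).trans (κ G X)

lemma kU_map {X Y : Ob f} (g : X.X ⟶ Y.X) (y : (CGrpSh.ptsPre G).obj (op Y.X)) :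
    kU G X ((CGrpSh.ptsPre G).map g.op y) = res (pull g) (kU G Y y) := κ_comp G g y.down

end pts

section ring

variable {A : Type u} [CommRing A] {𝒢 : Over (Spec (CommRingCat.of A))} [GrpObj 𝒢]
  {E : Type u} [CommRing E] [Algebra A E] (j : SpecOver A E ⟶ 𝒢) [IsOpenImmersion j.left]
  {ε : E →ₐ[A] A} {S : Type u} [CommRing S] [Algebra A S] {J : Ideal S}

lemma res_Φ_zero (hε : specMap A ε ≫ j = 1) (hJ : ∀ x ∈ J, ∀ y ∈ J, x * y = 0) {S' : Type u} [CommRing S']
    [Algebra A S'] (φ : S →ₐ[A] S') (hφ : ∀ x ∈ J, φ x = 0) (D : Der ε J) : res φ (Φ j hε hJ D) = 0 := by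
  rw [res_Φ j hε hJ (J' := ⊥) (by simp) φ (fun x hx => (Ideal.mem_bot).2 (hφ x hx))]
  rw [← map_zero (Φ j hε (J := (⊥ : Ideal S')) (by simp))]
  congr 1
  apply Subtype.ext
  ext x
  exact hφ _ (D.2.1 x)

variable {B : Type u} [CommRing B]

/-- multiplication by `b` on `J`, the identity on `B` -/
def mR (β : B →+* S) (s : S →+* B) (hs : ∀ b, s (β b) = b) (hJ : ∀ x y, s x = 0 → s y = 0 → x * y = 0) (b : B) :
    S →+* S where
  toFun c := β (s c) + β b * (c - β (s c))
  map_one' := by rw [map_one, map_one, sub_self, mul_zero, add_zero]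
  map_zero' := by rw [map_zero, map_zero, sub_self, mul_zero, add_zero]
  map_add' c d := by rw [map_add, map_add]; ring
  map_mul' c d := by
    have h := hJ (c - β (s c)) (d - β (s d)) (by rw [map_sub, hs, sub_self]) (by rw [map_sub, hs, sub_self])
    rw [map_mul, map_mul]
    linear_combination (β b - β b * β b) * h

variable (β : B →+* S) (s : S →+* B) (hs : ∀ b, s (β b) = b) (hJ : ∀ x y, s x = 0 → s y = 0 → x * y = 0)

lemma mR_apply (b : B) (c : S) : mR β s hs hJ b c = β (s c) + β b * (c - β (s c)) := rfl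

lemma mR_one : mR β s hs hJ 1 = RingHom.id S := by
  ext c
  rw [mR_apply, map_one, _root_.one_mul, add_sub_cancel]
  rfl

lemma mR_mul (a b : B) : mR β s hs hJ (a * b) = (mR β s hs hJ a).comp (mR β s hs hJ b) := by
  ext c
  rw [RingHom.comp_apply, mR_apply, mR_apply, mR_apply]
  have h : s (β (s c) + β b * (c - β (s c))) = s c := by
    rw [map_add, map_mul, map_sub, hs, hs, sub_self, mul_zero, add_zero]
  rw [h, map_mul]
  ring

lemma mR_β (b b' : B) : mR β s hs hJ b (β b') = β b' := by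
  rw [mR_apply, hs, sub_self, mul_zero, add_zero]

lemma s_mR (b : B) (c : S) : s (mR β s hs hJ b c) = s c := by
  rw [mR_apply, map_add, map_mul, map_sub, hs, hs, sub_self, mul_zero, add_zero]

end ring

section sheaf

variable {T P : Scheme.{u}} {π : P ⟶ T} {σ : T ⟶ P} (hσ : σ ≫ π = 𝟙 T) (G : Over T) [GrpObj G] [IsCommMonObj G]

/-- restriction to the zero section -/
noncomputable def sg (U : Over T) : (CGrpSh.ptsPre G).obj (op ((EE π).obj U)) →+ (CGrpSh.ptsPre G).obj (op U) :=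
  ((CGrpSh.ptsPre G).map ((sec σ hσ).app U).op).hom

/-- infinitesimal points -/
noncomputable def LG (U : Over T) : AddSubgroup ((CGrpSh.ptsPre G).obj (op ((EE π).obj U))) := (sg hσ G U).ker

variable {hσ G} in
lemma mem_LG {U : Over T} {x : (CGrpSh.ptsPre G).obj (op ((EE π).obj U))} :
    x ∈ LG hσ G U ↔ (CGrpSh.ptsPre G).map ((sec σ hσ).app U).op x = 0 := Iff.rfl

lemma pmap_pmap {U V W : Over T} (g : V ⟶ U) (h : W ⟶ V) (x : (CGrpSh.ptsPre G).obj (op U)) :
    (CGrpSh.ptsPre G).map h.op ((CGrpSh.ptsPre G).map g.op x) = (CGrpSh.ptsPre G).map (h ≫ g).op x := by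
  rw [op_comp, Functor.map_comp]
  rfl

lemma map_mem {U V : Over T} (g : V ⟶ U) (x : (CGrpSh.ptsPre G).obj (op ((EE π).obj U))) (hx : x ∈ LG hσ G U) :
    (CGrpSh.ptsPre G).map ((EE π).map g).op x ∈ LG hσ G V := by
  rw [mem_LG, pmap_pmap]
  have h : (sec σ hσ).app V ≫ (EE π).map g = g ≫ (sec σ hσ).app U := ((sec σ hσ).naturality g).symm
  rw [h, ← pmap_pmap, mem_LG.1 hx]
  exact map_zero _

/-- the presheaf of infinitesimal points -/
noncomputable def Lpre : (Over T)ᵒᵖ ⥤ AddCommGrpCat.{u + 1} where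
  obj U := AddCommGrpCat.of (LG hσ G U.unop)
  map {U V} g := AddCommGrpCat.ofHom
    { toFun := fun x => ⟨(CGrpSh.ptsPre G).map ((EE π).map g.unop).op x.1, map_mem hσ G g.unop x.1 x.2⟩
      map_zero' := Subtype.ext (map_zero _)
      map_add' := fun x y => Subtype.ext (map_add _ _ _) }
  map_id U := AddCommGrpCat.ext fun x => Subtype.ext (by
    change (CGrpSh.ptsPre G).map ((EE π).map (𝟙 U.unop)).op x.1 = x.1
    rw [CategoryTheory.Functor.map_id, op_id, CategoryTheory.Functor.map_id]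
    rfl)
  map_comp {U V W} g h := AddCommGrpCat.ext fun x => Subtype.ext (by
    change (CGrpSh.ptsPre G).map ((EE π).map (h.unop ≫ g.unop)).op x.1 =
      (CGrpSh.ptsPre G).map ((EE π).map h.unop).op ((CGrpSh.ptsPre G).map ((EE π).map g.unop).op x.1)
    rw [Functor.map_comp, pmap_pmap])

/-- the inclusion -/
noncomputable def Lι : Lpre hσ G ⟶ (EE π).op ⋙ CGrpSh.ptsPre G where
  app U := AddCommGrpCat.ofHom (LG hσ G U.unop).subtype
  naturality _ _ _ := rfl

/-- restriction to the other section -/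
noncomputable def LΨ {τ : T ⟶ P} (hτ : τ ≫ π = 𝟙 T) : Lpre hσ G ⟶ CGrpSh.ptsPre G :=
  Lι hσ G ≫ Functor.whiskerRight (NatTrans.op (sec τ hτ)) (CGrpSh.ptsPre G)

lemma LΨ_app {τ : T ⟶ P} (hτ : τ ≫ π = 𝟙 T) (U : Over T) (x : (Lpre hσ G).obj (op U)) :
    (LΨ hσ G hτ).app (op U) x = (CGrpSh.ptsPre G).map ((sec τ hτ).app U).op
      (show LG hσ G U from x).1 := rfl

variable (K : Precoverage Scheme.{u}) [(QuotSh.J K T).Subcanonical]

theorem isSheaf_G₁ : Presheaf.IsSheaf (QuotSh.J K T) ((EE π).op ⋙ CGrpSh.ptsPre G) :=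
  ((BigSite.pushBig K π AddCommGrpCat.{u + 1}).obj ((BigSite.pullBig K π AddCommGrpCat.{u + 1}).obj
    (CGrpSh.pts K G))).property

theorem isSheaf_Lpre : Presheaf.IsSheaf (QuotSh.J K T) (Lpre hσ G) := by
  refine K186.GenRel.isSheaf_of_local (isSheaf_G₁ G K) (Lι hσ G) (fun Y a b hab => Subtype.ext hab) ?_
  intro U S hS t ht
  let t' : (CGrpSh.ptsPre G).obj (op ((EE π).obj U)) := t
  refine ⟨⟨t', ?_⟩, rfl⟩
  rw [mem_LG]
  have hsep := (K186.GenRel.isSheaf_type (CGrpSh.isSheaf_ptsPre K G)).isSeparated S hS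
  refine hsep.ext fun V g hg => ?_
  obtain ⟨⟨a, ha'⟩, ha⟩ := ht g hg
  change (CGrpSh.ptsPre G).map g.op ((CGrpSh.ptsPre G).map ((sec σ hσ).app U).op t') =
    (CGrpSh.ptsPre G).map g.op 0
  have h1 : a = (CGrpSh.ptsPre G).map ((EE π).map g).op t' := ha
  have h : g ≫ (sec σ hσ).app U = (sec σ hσ).app V ≫ (EE π).map g := (sec σ hσ).naturality g
  rw [pmap_pmap, h, ← pmap_pmap, ← h1, mem_LG.1 ha', map_zero]

end sheaf

end K186.Lie
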