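import Groth.Agent.CGrpSh.K186.Lie

/-!
# Infinitesimal points over affine schemes: derivations, the action of functions
-/

set_option autoImplicit false
set_option linter.style.haveILetI false
set_option linter.unusedSectionVars false

universe u

open CategoryTheory CategoryTheory.Limits AlgebraicGeometry Opposite MonObj
open Groth.Agent.Etbase.FFExact K186.BCAlg K186.Pinch K186.RD K186.AffPt K186.Geo K186.Lie
open Groth.Agent.Books.AffBridge K809.KerGrp

namespace K186.LieAff

section action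

variable {T P : Scheme.{u}} {π : P ⟶ T} [IsAffineHom π] {σ : T ⟶ P} (hσ : σ ≫ π = 𝟙 T) (U : Over T)

/-- functions on `U` -/
abbrev O (U : Over T) : Type u := Γ(U.left, ⊤)

variable (π) in
/-- pullback of functions to the thickening -/
noncomputable def be (U : Over T) : O U →+* O ((EE π).obj U) := ((pN π).app U).left.appTop.hom

/-- pullback of functions along the section -/
noncomputable def se (U : Over T) : O ((EE π).obj U) →+* O U := ((sec σ hσ).app U).left.appTop.hom

lemma se_be (b : O U) : se hσ U (be π U b) = b := by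
  have h : ((sec σ hσ).app U).left ≫ ((pN π).app U).left = 𝟙 _ := by
    rw [← Over.comp_left]
    exact congrArg (fun t => t.left) (sec_pN σ hσ U)
  have h2 : ((pN π).app U).left.appTop ≫ ((sec σ hσ).app U).left.appTop = 𝟙 _ := by
    rw [← Scheme.Hom.comp_appTop, h, Scheme.Hom.id_appTop]
  exact DFunLike.congr_fun (congrArg CommRingCat.Hom.hom h2) b

/-- the ideal of the zero section has square zero -/
def Sq : Prop := ∀ x y : O ((EE π).obj U), se hσ U x = 0 → se hσ U y = 0 → x * y = 0

variable {hσ U} (hU : Sq hσ U) (hA : IsAffine U.left)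

/-- the action on functions -/
noncomputable def mO (b : O U) : O ((EE π).obj U) →+* O ((EE π).obj U) :=
  mR (be π U) (se hσ U) (se_be hσ U) hU b

include hA in
lemma isAff : IsAffine ((EE π).obj U).left := inferInstanceAs (IsAffine (pullback U.hom π))

/-- the endomorphism of the thickening given by a function, as a morphism of schemes -/
noncomputable def mS (b : O U) : ((EE π).obj U).left ⟶ ((EE π).obj U).left :=
  have := isAff (π := π) hA
  ((EE π).obj U).left.isoSpec.hom ≫ Spec.map (CommRingCat.ofHom (mO hU b)) ≫ ((EE π).obj U).left.isoSpec.inv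

lemma mS_appTop (b : O U) : (mS hU hA b).appTop = CommRingCat.ofHom (mO hU b) := by
  have := isAff (π := π) hA
  have h1 := Scheme.isoSpec_hom_naturality (mS hU hA b)
  have h2 : mS hU hA b ≫ ((EE π).obj U).left.isoSpec.hom =
      ((EE π).obj U).left.isoSpec.hom ≫ Spec.map (CommRingCat.ofHom (mO hU b)) := by
    rw [mS, Category.assoc, Category.assoc, Iso.inv_hom_id, Category.comp_id]
  rw [h2, cancel_epi] at h1
  exact Spec.map_injective h1

lemma hom_ext_aff {X Y : Scheme.{u}} [IsAffine Y] {g h : X ⟶ Y} (e : ∀ y, g.appTop.hom y = h.appTop.hom y) : g = h := by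
  apply ext_of_isAffine
  exact CommRingCat.hom_ext (RingHom.ext e)

lemma mS_fst (b : O U) : mS hU hA b ≫ ((pN π).app U).left = ((pN π).app U).left := by
  have : IsAffine ((𝟭 (Over T)).obj U).left := hA
  apply hom_ext_aff
  intro y
  rw [Scheme.Hom.comp_appTop, mS_appTop]
  exact mR_β (be π U) (se hσ U) (se_be hσ U) hU b y

/-- the endomorphism of the thickening given by a function -/
noncomputable def mE (b : O U) : (EE π).obj U ⟶ (EE π).obj U := Over.homMk (mS hU hA b) (by
  have h := Over.w ((pN π).app U)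
  rw [← h, ← Category.assoc]
  exact congrArg (fun t => t ≫ U.hom) (mS_fst hU hA b))

lemma mE_left (b : O U) : (mE hU hA b).left = mS hU hA b := rfl

lemma mE_one : mE hU hA 1 = 𝟙 _ := by
  have := isAff (π := π) hA
  ext1
  apply hom_ext_aff
  intro y
  rw [mE_left, mS_appTop, Over.id_left, Scheme.Hom.id_appTop]
  exact DFunLike.congr_fun (mR_one (be π U) (se hσ U) (se_be hσ U) hU) y

lemma mE_mul (a b : O U) : mE hU hA (a * b) = mE hU hA a ≫ mE hU hA b := by
  have := isAff (π := π) hA
  ext1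
  apply hom_ext_aff
  intro y
  rw [Over.comp_left, mE_left, mE_left, mE_left, Scheme.Hom.comp_appTop, mS_appTop, mS_appTop, mS_appTop]
  exact DFunLike.congr_fun (mR_mul (be π U) (se hσ U) (se_be hσ U) hU a b) y

lemma sec_mE (b : O U) : (sec σ hσ).app U ≫ mE hU hA b = (sec σ hσ).app U := by
  have := isAff (π := π) hA
  ext1
  apply hom_ext_aff
  intro y
  rw [Over.comp_left, mE_left, Scheme.Hom.comp_appTop, mS_appTop]
  exact s_mR (be π U) (se hσ U) (se_be hσ U) hU b y

lemma mE_nat {V : Over T} (hV : Sq hσ V) (hVA : IsAffine V.left) (g : V ⟶ U) (b : O U) :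
    (EE π).map g ≫ mE hU hA b = mE hV hVA (g.left.appTop.hom b) ≫ (EE π).map g := by
  have := isAff (π := π) hA
  ext1
  apply hom_ext_aff
  intro y
  rw [Over.comp_left, Over.comp_left, mE_left, mE_left, Scheme.Hom.comp_appTop, Scheme.Hom.comp_appTop, mS_appTop,
    mS_appTop]
  change ((EE π).map g).left.appTop.hom (mO hU b y) = mO hV (g.left.appTop.hom b) (((EE π).map g).left.appTop.hom y)
  have h1 : ∀ z, ((EE π).map g).left.appTop.hom (be π U z) = be π V (g.left.appTop.hom z) := by
    intro z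
    have h := congrArg (fun t => t.left.appTop) ((pN π).naturality g)
    exact DFunLike.congr_fun (congrArg CommRingCat.Hom.hom h) z
  have h2 : ∀ z, se hσ V (((EE π).map g).left.appTop.hom z) = g.left.appTop.hom (se hσ U z) := by
    intro z
    have h := congrArg (fun t => t.left.appTop) ((sec σ hσ).naturality g)
    exact (DFunLike.congr_fun (congrArg CommRingCat.Hom.hom h) z).symm
  rw [mO, mO, mR_apply, mR_apply, map_add, map_mul, map_sub, h1, h1, h2]

end action

section der

variable {T P : Scheme.{u}} {π : P ⟶ T} [IsAffineHom π] {σ τ : T ⟶ P} (hσ : σ ≫ π = 𝟙 T) (hτ : τ ≫ π = 𝟙 T)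
  (G : Over T) [GrpObj G] [IsCommMonObj G]
  {A : Type u} [CommRing A] {f : Spec (CommRingCat.of A) ⟶ T} [Mono f] {a : Ideal A} (ha : ∀ x ∈ a, ∀ y ∈ a, x * y = 0)
  (c : Chart π σ τ f a)

include hτ ha c in
theorem sq (U : Ob f) : Sq hσ U.X := fun x y hx hy => (dt hσ hτ c U).sqJ ha x hx y hy

variable {E : Type u} [CommRing E] [Algebra A E] (j : SpecOver A E ⟶ Red.bc f G) [IsOpenImmersion j.left]
  {ε : E →ₐ[A] A} (hε : specMap A ε ≫ j = 1) (U : Ob f)

/-- Infinitesimal points from derivations. -/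
noncomputable def eHom : Der ε (dt hσ hτ c U).J →+ LG hσ G U.X where
  toFun δ := ⟨(kU G (EOb π U)).symm (Φ j hε ((dt hσ hτ c U).sqJ ha) δ), by
    rw [mem_LG]
    apply (kU G U).injective
    rw [map_zero]
    refine (kU_map G (sE U σ hσ) _).trans ?_
    rw [AddEquiv.apply_symm_apply]
    exact res_Φ_zero j hε _ _ (fun x hx => hx) δ⟩
  map_zero' := Subtype.ext ((congrArg (kU G (EOb π U)).symm (map_zero (Φ j hε ((dt hσ hτ c U).sqJ ha)))).trans
    (map_zero (kU G (EOb π U)).symm))
  map_add' δ δ' := Subtype.ext ((congrArg (kU G (EOb π U)).symm (map_add (Φ j hε ((dt hσ hτ c U).sqJ ha)) δ δ')).trans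
    (map_add (kU G (EOb π U)).symm _ _))

theorem eHom_bijective : Function.Bijective (eHom hσ hτ G ha c j hε U) := by
  constructor
  · intro δ δ' h
    have h1 := congrArg Subtype.val h
    exact Φ_injective j hε ((dt hσ hτ c U).sqJ ha) ((kU G (EOb π U)).symm.injective h1)
  · rintro ⟨x, hx⟩
    rw [mem_LG] at hx
    obtain ⟨δ, hδ⟩ := exists_Φ j hε ((dt hσ hτ c U).sqJ ha) (dt hσ hτ c U).s
      (fun b => ⟨_, (dt hσ hτ c U).sβ b⟩) (fun x => Iff.rfl) (kU G (EOb π U) x) (by
        refine (kU_map G (sE U σ hσ) x).symm.trans ?_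
        refine Eq.trans ?_ (map_zero (kU G U))
        exact congrArg (kU G U) hx)
    refine ⟨δ, Subtype.ext ?_⟩
    change (kU G (EOb π U)).symm _ = x
    rw [hδ, AddEquiv.symm_apply_apply]

/-- Infinitesimal points are derivations. -/
noncomputable def eU : Der ε (dt hσ hτ c U).J ≃+ LG hσ G U.X :=
  AddEquiv.ofBijective (eHom hσ hτ G ha c j hε U) (eHom_bijective hσ hτ G ha c j hε U)

lemma eU_val (δ : Der ε (dt hσ hτ c U).J) : (eU hσ hτ G ha c j hε U δ).1 =
    (kU G (EOb π U)).symm (Φ j hε ((dt hσ hτ c U).sqJ ha) δ) := rfl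

/-- The action of functions on infinitesimal points. -/
theorem smul_eU (b : U.S) (δ : Der ε (dt hσ hτ c U).J) :
    (CGrpSh.ptsPre G).map (mE (sq hσ hτ ha c U) U.aff b).op (eU hσ hτ G ha c j hε U δ).1 =
      (eU hσ hτ G ha c j hε U (mulDer ((dt hσ hτ c U).β b) δ)).1 := by
  apply (kU G (EOb π U)).injective
  rw [eU_val, eU_val, AddEquiv.apply_symm_apply]
  refine (kU_map G (X := EOb π U) (Y := EOb π U) (mE (sq hσ hτ ha c U) U.aff b) _).trans ?_
  rw [AddEquiv.apply_symm_apply]
  have h : ∀ x ∈ (dt hσ hτ c U).J, pull (X := EOb π U) (Y := EOb π U) (mE (sq hσ hτ ha c U) U.aff b) x =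
      (dt hσ hτ c U).β b * x := by
    intro x hx
    have h1 : (mE (sq hσ hτ ha c U) U.aff b).left.appTop.hom x = mO (sq hσ hτ ha c U) b x := by
      rw [mE_left, mS_appTop]
      rfl
    refine h1.trans ?_
    have h2 : se hσ U.X x = 0 := hx
    rw [mO, mR_apply, h2, map_zero, sub_zero, zero_add]
    rfl
  rw [res_Φ j hε ((dt hσ hτ c U).sqJ ha) ((dt hσ hτ c U).sqJ ha) _ (fun x hx => by
    rw [h x hx]
    exact Ideal.mul_mem_left _ _ hx)]
  congr 1
  exact Subtype.ext (LinearMap.ext fun x => h _ (δ.2.1 x))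

variable {U}

/-- Restriction of infinitesimal points. -/
theorem map_eU {U' : Ob f} (g : U'.X ⟶ U.X) (δ : Der ε (dt hσ hτ c U).J) :
    (CGrpSh.ptsPre G).map ((EE π).map g).op (eU hσ hτ G ha c j hε U δ).1 =
      (eU hσ hτ G ha c j hε U' ⟨(dtHom hσ hτ c g).h.toLinearMap.comp δ.1,
        comp_mem _ (dtHom hσ hτ c g).mem δ.2⟩).1 := by
  apply (kU G (EOb π U')).injective
  rw [eU_val, eU_val, AddEquiv.apply_symm_apply]
  refine (kU_map G (X := EOb π U') (Y := EOb π U) (gE π g) _).trans ?_
  rw [AddEquiv.apply_symm_apply]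
  exact res_Φ j hε ((dt hσ hτ c U).sqJ ha) ((dt hσ hτ c U').sqJ ha) _ (dtHom hσ hτ c g).mem δ

end der

end K186.LieAff
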