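import Groth.Agent.CGrpSh.K186.LieMod

/-!
# Infinitesimal points of flat schemes
-/

set_option autoImplicit false
set_option linter.style.haveILetI false
set_option linter.unusedSectionVars false

universe u

open CategoryTheory CategoryTheory.Limits AlgebraicGeometry Opposite MonObj
open Groth.Agent.Etbase.FFExact K186.BCAlg K186.Pinch K186.RD K186.AffPt K186.Geo K186.Lie K186.LieAff K186.Big K186.Aff
open Groth.Agent.Books.AffBridge K809.KerGrp K186.ModExt K186.LieMod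

namespace K186.LieFlat

/-- The kernel of a base change of a surjection. -/
theorem ker_of_isPushout {A B A₀ B₀ : Type u} [CommRing A] [CommRing B] [CommRing A₀] [CommRing B₀] (φ : A →+* A₀)
    (g : A →+* B) (h : A₀ →+* B₀) (ψ : B →+* B₀) (hφ : Function.Surjective φ)
    (hp : IsPushout (CommRingCat.ofHom φ) (CommRingCat.ofHom g) (CommRingCat.ofHom h) (CommRingCat.ofHom ψ)) (x : B) :
    ψ x = 0 ↔ x ∈ (RingHom.ker φ).map g := by
  have hc : h.comp φ = ψ.comp g := by
    have := hp.w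
    exact congrArg CommRingCat.Hom.hom this
  constructor
  · intro hx
    let I := (RingHom.ker φ).map g
    let q : B →+* B ⧸ I := Ideal.Quotient.mk I
    have hk : ∀ y, φ y = 0 → (q.comp g) y = 0 := fun y hy =>
      Ideal.Quotient.eq_zero_iff_mem.2 (Ideal.mem_map_of_mem g hy)
    let l : A₀ →+* B ⧸ I := RingHom.liftOfSurjective φ hφ ⟨q.comp g, fun y hy => hk y hy⟩
    have hl : l.comp φ = q.comp g := RingHom.liftOfSurjective_comp φ hφ _
    let d := hp.desc (CommRingCat.ofHom l) (CommRingCat.ofHom q) (by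
      rw [← CommRingCat.ofHom_comp, hl]
      rfl)
    have hd : CommRingCat.ofHom ψ ≫ d = CommRingCat.ofHom q := hp.inr_desc _ _ _
    have h1 : d.hom (ψ x) = q x := DFunLike.congr_fun (congrArg CommRingCat.Hom.hom hd) x
    rw [hx, map_zero] at h1
    exact Ideal.Quotient.eq_zero_iff_mem.1 h1.symm
  · intro hx
    have h1 : (RingHom.ker φ).map g ≤ RingHom.ker ψ := by
      rw [Ideal.map_le_iff_le_comap]
      intro y hy
      rw [Ideal.mem_comap, RingHom.mem_ker]
      have h2 := DFunLike.congr_fun hc y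
      change h (φ y) = ψ (g y) at h2
      rw [← h2, RingHom.mem_ker.1 hy, map_zero]
    exact h1 hx

section chart

variable {T T' : Scheme.{u}} (j : T' ⟶ T) [IsClosedImmersion j] {A : Type u} [CommRing A]
  (f : Spec (CommRingCat.of A) ⟶ T) (a : Ideal A)

/-- charts of a closed subscheme -/
structure JC where
  /-- functions on the chart -/
  A₀ : Type u
  [cr : CommRing A₀]
  /-- restriction -/
  φ : A →+* A₀
  hφ : Function.Surjective φ
  ker : RingHom.ker φ = a
  /-- the chart -/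
  ι₀ : Spec (CommRingCat.of A₀) ⟶ T'
  pb : IsPullback ι₀ (Spec.map (CommRingCat.ofHom φ)) j f

attribute [instance] JC.cr

variable {j f a} (d : JC j f a) [Mono f] (U : Ob f)

/-- the closed subscheme of `U` -/
noncomputable def JC.x : (EOb j U).X.left ⟶ Spec (CommRingCat.of d.A₀) :=
  d.pb.lift (E2 j U) (E1 j U ≫ U.ul) (by rw [Category.assoc, ul_f, E_w])

lemma JC.isPullback : IsPullback (d.x U) (E1 j U) (Spec.map (CommRingCat.ofHom d.φ)) U.ul := by
  refine IsPullback.of_right (h₁₂ := d.ι₀) (v₁₃ := j) (h₂₂ := f) ?_ (d.pb.lift_snd _ _ _) d.pb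
  have h : d.x U ≫ d.ι₀ = E2 j U := d.pb.lift_fst _ _ _
  rw [h, ul_f]
  exact E_isPullback j U

lemma surj_pE : Function.Surjective (pull (pE j U)) := by
  have := U.aff
  have h1 : IsClosedImmersion (E1 j U) := inferInstanceAs (IsClosedImmersion (pullback.fst U.X.hom j))
  have h2 := (IsClosedImmersion.isAffine_surjective_of_isAffine (E1 j U)).2
  intro y
  obtain ⟨x, hx⟩ := h2 y
  refine ⟨x, ?_⟩
  change (pE j U).left.appTop.hom x = y
  rw [pE_left]
  exact hx

include d in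
lemma ker_pE (x : U.S) : pull (pE j U) x = 0 ↔ x ∈ a.map (algebraMap A U.S) := by
  have := U.aff
  have h := isPushout_appTop_of_isPullback (d.isPullback U)
  have h2 : IsPushout (CommRingCat.ofHom d.φ) (CommRingCat.ofHom (algebraMap A U.S))
      (CommRingCat.ofHom (R := d.A₀) (S := (EOb j U).S) ((Scheme.ΓSpecIso (CommRingCat.of d.A₀)).inv ≫ (d.x U).appTop).hom)
      (CommRingCat.ofHom (R := U.S) (S := (EOb j U).S) (pull (pE j U)).toRingHom) := by
    refine h.of_iso (Scheme.ΓSpecIso (CommRingCat.of A)) (Scheme.ΓSpecIso (CommRingCat.of d.A₀))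
      (Iso.refl Γ(U.X.left, ⊤)) (Iso.refl Γ((EOb j U).X.left, ⊤)) ?_ ?_ ?_ ?_
    · exact Scheme.ΓSpecIso_naturality _
    · change U.ul.appTop ≫ 𝟙 _ = (Scheme.ΓSpecIso (CommRingCat.of A)).hom ≫ (Scheme.ΓSpecIso (CommRingCat.of A)).inv ≫
        U.ul.appTop
      rw [Iso.hom_inv_id_assoc, Category.comp_id]
    · change (d.x U).appTop ≫ 𝟙 _ = (Scheme.ΓSpecIso (CommRingCat.of d.A₀)).hom ≫
        (Scheme.ΓSpecIso (CommRingCat.of d.A₀)).inv ≫ (d.x U).appTop
      rw [Iso.hom_inv_id_assoc, Category.comp_id]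
    · change (E1 j U).appTop ≫ 𝟙 _ = 𝟙 _ ≫ (pE j U).left.appTop
      rw [pE_left, Category.comp_id]
      exact (Category.id_comp _).symm
  have h3 := ker_of_isPushout d.φ (algebraMap A U.S) _ (pull (pE j U)).toRingHom d.hφ h2 x
  rw [d.ker] at h3
  exact h3

end chart

section comp

variable {T T' P : Scheme.{u}} {π : P ⟶ T} {σ τ : T ⟶ P} {G : Over T} [GrpObj G] [IsCommMonObj G]
  (hσ : σ ≫ π = 𝟙 T) (hτ : τ ≫ π = 𝟙 T) {j : T' ⟶ T} (hj : j ≫ σ = j ≫ τ)

include hj in
lemma pN_sec (U : Over T) : (pN j).app U ≫ (sec τ hτ).app U = (pN j).app U ≫ (sec σ hσ).app U := by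
  ext1
  refine pullback.hom_ext ?_ ?_
  · rw [Over.comp_left, Over.comp_left, Category.assoc, Category.assoc, sec_left, sec_left, secL_fst, secL_fst]
  · rw [Over.comp_left, Over.comp_left, Category.assoc, Category.assoc, sec_left, sec_left, secL_snd, secL_snd, pN_left,
      ← Category.assoc, ← Category.assoc, pullback.condition, Category.assoc, Category.assoc, hj]

include hj in
lemma Ψ_mem (U : Over T) (x : (Lpre hσ G).obj (op U)) :
    (CGrpSh.ptsPre G).map ((pN j).app U).op ((LΨ hσ G hτ).app (op U) x) = 0 := by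
  rw [LΨ_app, pmap_pmap]
  have h := pN_sec hσ hτ hj U
  refine (congrArg (fun t => (CGrpSh.ptsPre G).map (Quiver.Hom.op t) (show LG hσ G U from x).1) h).trans ?_
  rw [← pmap_pmap, mem_LG.1 (show LG hσ G U from x).2]
  exact map_zero _

variable [IsAffineHom π] (c : GC π σ τ G) (U : Ob c.f)

lemma sqK : ∀ x ∈ c.a.map (algebraMap c.A U.S), ∀ y ∈ c.a.map (algebraMap c.A U.S), x * y = 0 := by
  intro x hx y hy
  have h : c.a.map (algebraMap c.A U.S) * c.a.map (algebraMap c.A U.S) = ⊥ := by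
    rw [← Ideal.map_mul]
    have : c.a * c.a = ⊥ := by
      rw [← le_bot_iff, Ideal.mul_le]
      intro x hx y hy
      exact c.ha x hx y hy
    rw [this, Ideal.map_bot]
  have h2 := Ideal.mul_mem_mul hx hy
  rw [h] at h2
  exact h2

lemma kU_Ψ (δ : Der c.ε (dt hσ hτ c.c U).J) : kU G U ((LΨ hσ G hτ).app (op U.X) (eC hσ hτ c U δ)) =
    Φ c.j c.hε (sqK c U) ⟨(dt hσ hτ c.c U).t.toLinearMap.comp δ.1, comp_mem _ (dt hσ hτ c.c U).t_mem δ.2⟩ := by
  refine (kU_map G (sE U τ hτ) _).trans ?_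
  have h : kU G (EOb π U) (show LG hσ G U.X from eC hσ hτ c U δ).1 =
      Φ c.j c.hε ((dt hσ hτ c.c U).sqJ c.ha) δ := (kU G (EOb π U)).apply_symm_apply _
  refine (congrArg (res (pull (sE U τ hτ))) h).trans ?_
  exact res_Φ c.j c.hε ((dt hσ hτ c.c U).sqJ c.ha) (sqK c U) (dt hσ hτ c.c U).t (dt hσ hτ c.c U).t_mem δ

theorem Ψ_inj_chart (hfl : (algebraMap c.A U.S).Flat) (x : (Lpre hσ G).obj (op U.X))
    (hx : (LΨ hσ G hτ).app (op U.X) x = 0) : x = 0 := by
  obtain ⟨δ, rfl⟩ := (eC hσ hτ c U).surjective x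
  have h := kU_Ψ hσ hτ c U δ
  have h0 : kU G U ((LΨ hσ G hτ).app (op U.X) (eC hσ hτ c U δ)) = 0 := (congrArg (kU G U) hx).trans (map_zero _)
  rw [h0] at h
  have h1 := Φ_injective c.j c.hε (sqK c U) (h.symm.trans (map_zero _).symm)
  have h2 : δ = 0 := by
    refine Subtype.ext (LinearMap.ext fun y => ?_)
    refine (dt hσ hτ c.c U).t_injective hfl _ (δ.2.1 y) ?_
    exact DFunLike.congr_fun (congrArg Subtype.val h1) y
  rw [h2]
  exact map_zero _

theorem Ψ_surj_chart [IsClosedImmersion j] (d : JC j c.f c.a) (n : (CGrpSh.ptsPre G).obj (op U.X))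
    (hn : (CGrpSh.ptsPre G).map ((pN j).app U.X).op n = 0) :
    ∃ x : (Lpre hσ G).obj (op U.X), (LΨ hσ G hτ).app (op U.X) x = n := by
  obtain ⟨δ', hδ'⟩ := exists_Φ c.j c.hε (sqK c U) (pull (pE j U)) (surj_pE U) (fun x => ker_pE d U x)
    (kU G U n) (by
      refine (kU_map G (pE j U) n).symm.trans ?_
      exact (congrArg (kU G (EOb j U)) hn).trans (map_zero _))
  obtain ⟨δ, hδ, hδ2⟩ := exists_der_lift ((dt hσ hτ c.c U).sqJ c.ha) (sqK c U) (dt hσ hτ c.c U).t.toLinearMap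
    (dt hσ hτ c.c U).t_mem δ'.2 (fun x => (dt hσ hτ c.c U).exists_t _ (δ'.2.1 x))
  refine ⟨eC hσ hτ c U ⟨δ, hδ⟩, ?_⟩
  apply (kU G U).injective
  refine (kU_Ψ hσ hτ c U ⟨δ, hδ⟩).trans ?_
  rw [← hδ']
  congr 1
  exact Subtype.ext hδ2

end comp

section flat

variable {T T' P : Scheme.{u}} {π : P ⟶ T} {σ τ : T ⟶ P} {G : Over T} [GrpObj G] [IsCommMonObj G]
  (hσ : σ ≫ π = 𝟙 T) (hτ : τ ≫ π = 𝟙 T) {j : T' ⟶ T} [IsClosedImmersion j] (hj : j ≫ σ = j ≫ τ) [IsAffineHom π]
  (Q : MorphismProperty Scheme.{u}) [Gd Q] [(QuotSh.J (Scheme.precoverage Q) T).Subcanonical]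

theorem flat_algebraMap {A : Type u} [CommRing A] {f : Spec (CommRingCat.of A) ⟶ T} [Mono f] (U : Ob f)
    (h : Flat U.X.hom) : (algebraMap A U.S).Flat := by
  have := U.aff
  have h1 : IsPullback (𝟙 U.X.left) U.ul U.X.hom f :=
    ⟨⟨by rw [Category.id_comp, ul_f]⟩, ⟨PullbackCone.IsLimit.mk _ (fun s => s.fst) (fun s => Category.comp_id _)
      (fun s => by
        rw [← cancel_mono f, Category.assoc, ul_f]
        exact s.condition) (fun s m hm _ => by
          rw [← hm]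
          exact (Category.comp_id _).symm)⟩⟩
  have h2 : Flat U.ul := MorphismProperty.of_isPullback (P := @Flat) h1 h
  have h3 : U.ul.appTop.hom.Flat := HasRingHomProperty.appTop (P := @Flat) U.ul h2
  have h4 : ((Scheme.ΓSpecIso (CommRingCat.of A)).inv.hom).Flat :=
    RingHom.Flat.of_bijective (ConcreteCategory.bijective_of_isIso (Scheme.ΓSpecIso (CommRingCat.of A)).inv)
  exact RingHom.Flat.comp h4 h3

/-- good opens of a flat scheme -/
def Gc (j : T' ⟶ T) (π : P ⟶ T) (σ τ : T ⟶ P) (G : Over T) [GrpObj G] [IsCommMonObj G] (W : Over T) : Prop :=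
  IsAffine W.left ∧ ∃ c : GC π σ τ G, Nonempty (JC j c.f c.a) ∧ Nonempty (W ⟶ Over.mk c.f)

/-- the affine open subschemes over charts -/
structure Ix (j : T' ⟶ T) (π : P ⟶ T) (σ τ : T ⟶ P) (G : Over T) [GrpObj G] [IsCommMonObj G] (U : Over T) where
  /-- the open subscheme -/
  W : Over T
  hW : Gc j π σ τ G W
  /-- the inclusion -/
  b : W ⟶ U
  hb : IsOpenImmersion b.left

variable (hcov : ∀ x : T, ∃ c : GC π σ τ G, Nonempty (JC j c.f c.a) ∧ x ∈ Set.range c.f)

include hcov in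
theorem cover (U : Over T) : Sieve.ofArrows (fun i : Ix j π σ τ G U => i.W) (fun i => i.b) ∈
    QuotSh.J (Scheme.precoverage Q) T U := by
  rw [K570.Cov.mem_J_iff]
  intro x
  obtain ⟨c, hd, hc⟩ := hcov (U.hom x)
  obtain ⟨W, hW, hxW, hle⟩ := exists_isAffineOpen_mem_and_subset (x := x) (U := U.hom ⁻¹ᵁ c.f.opensRange) hc
  let Y : Over T := Over.mk (W.ι ≫ U.hom)
  let i : Y ⟶ U := Over.homMk W.ι rfl
  have hr : Set.range (W.ι ≫ U.hom) ⊆ Set.range c.f := by
    rintro _ ⟨y, rfl⟩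
    have h1 : W.ι y ∈ W := y.2
    exact hle h1
  let u : Y ⟶ Over.mk c.f := Over.homMk (IsOpenImmersion.lift c.f (W.ι ≫ U.hom) hr)
    (IsOpenImmersion.lift_fac c.f (W.ι ≫ U.hom) hr)
  have hi : IsOpenImmersion i.left := inferInstanceAs (IsOpenImmersion W.ι)
  exact ⟨Y, i, ⟨Y, 𝟙 _, i, Presieve.ofArrows.mk (⟨Y, ⟨hW, c, hd, ⟨u⟩⟩, i, hi⟩ : Ix j π σ τ G U),
    Category.id_comp _⟩, Gd.hz _ hi, ⟨x, hxW⟩, rfl⟩

include hσ hτ hcov Q in
theorem Ψ_inj (U : Over T) (hU : Flat U.hom) (x : (Lpre hσ G).obj (op U)) (hx : (LΨ hσ G hτ).app (op U) x = 0) :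
    x = 0 := by
  refine K570.Cov.sep (isSheaf_Lpre hσ G (Scheme.precoverage Q)) _ (cover Q hcov U) _ _ fun i => ?_
  obtain ⟨h1, c, -, ⟨u⟩⟩ := i.hW
  let X : Ob c.f := ⟨i.W, h1, u⟩
  have hf : Flat X.X.hom := by
    have := i.hb
    change Flat i.W.hom
    rw [← Over.w i.b]
    infer_instance
  have hz : (Lpre hσ G).map i.b.op x = 0 := by
    refine Ψ_inj_chart hσ hτ c X (flat_algebraMap X hf) _ ?_
    have hn : (LΨ hσ G hτ).app (op i.W) ((Lpre hσ G).map i.b.op x) =
        (CGrpSh.ptsPre G).map i.b.op ((LΨ hσ G hτ).app (op U) x) := by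
      have h := (LΨ hσ G hτ).naturality i.b.op
      exact DFunLike.congr_fun (congrArg AddCommGrpCat.Hom.hom h) x
    refine hn.trans ?_
    rw [hx]
    exact map_zero _
  change (Lpre hσ G).map i.b.op x = (Lpre hσ G).map i.b.op 0
  rw [hz, map_zero]

include hj hcov Q in
theorem Ψ_surj (U : Over T) (hU : Flat U.hom) (n : (CGrpSh.ptsPre G).obj (op U))
    (hn : (CGrpSh.ptsPre G).map ((pN j).app U).op n = 0) :
    ∃ x : (Lpre hσ G).obj (op U), (LΨ hσ G hτ).app (op U) x = n := by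
  have hnat : ∀ {V W : Over T} (g : W ⟶ V) (x : (Lpre hσ G).obj (op V)),
      (LΨ hσ G hτ).app (op W) ((Lpre hσ G).map g.op x) = (CGrpSh.ptsPre G).map g.op ((LΨ hσ G hτ).app (op V) x) := by
    intro V W g x
    have h := (LΨ hσ G hτ).naturality g.op
    exact DFunLike.congr_fun (congrArg AddCommGrpCat.Hom.hom h) x
  have hs : ∀ i : Ix j π σ τ G U, ∃ x : (Lpre hσ G).obj (op i.W),
      (LΨ hσ G hτ).app (op i.W) x = (CGrpSh.ptsPre G).map i.b.op n := by
    intro i
    obtain ⟨h1, c, ⟨d⟩, ⟨u⟩⟩ := i.hW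
    let X : Ob c.f := ⟨i.W, h1, u⟩
    refine Ψ_surj_chart hσ hτ c X d _ ?_
    change (CGrpSh.ptsPre G).map ((pN j).app i.W).op ((CGrpSh.ptsPre G).map i.b.op n) = 0
    rw [pmap_pmap]
    have h2 : (pN j).app i.W ≫ i.b = (EE j).map i.b ≫ (pN j).app U := ((pN j).naturality i.b).symm
    refine (congrArg (fun t => (CGrpSh.ptsPre G).map (Quiver.Hom.op t) n) h2).trans ?_
    rw [← pmap_pmap, hn]
    exact map_zero _
  choose m hm using hs
  obtain ⟨t, ht⟩ := K570.Cov.glue (isSheaf_Lpre hσ G (Scheme.precoverage Q)) _ (cover Q hcov U) m (by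
    intro i k Z p q hpq
    have := i.hb
    have := k.hb
    let Y : Over T := Over.mk (pullback.fst i.b.left k.b.left ≫ i.W.hom)
    let y₁ : Y ⟶ i.W := Over.homMk (pullback.fst i.b.left k.b.left) rfl
    let y₂ : Y ⟶ k.W := Over.homMk (pullback.snd i.b.left k.b.left) (by
      change pullback.snd i.b.left k.b.left ≫ k.W.hom = pullback.fst i.b.left k.b.left ≫ i.W.hom
      rw [← Over.w i.b, ← Over.w k.b, pullback.condition_assoc])
    have hy : y₁ ≫ i.b = y₂ ≫ k.b := by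
      ext1
      exact pullback.condition
    have hYf : Flat Y.hom := by
      change Flat (pullback.fst i.b.left k.b.left ≫ i.W.hom)
      rw [← Over.w i.b]
      infer_instance
    have h0 : (Lpre hσ G).map y₁.op (m i) = (Lpre hσ G).map y₂.op (m k) := by
      refine sub_eq_zero.1 (Ψ_inj hσ hτ Q hcov Y hYf _ ?_)
      refine (map_sub ((LΨ hσ G hτ).app (op Y)).hom _ _).trans ?_
      refine sub_eq_zero.2 ?_
      refine (hnat y₁ (m i)).trans (Eq.trans ?_ (hnat y₂ (m k)).symm)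
      rw [hm, hm, pmap_pmap, pmap_pmap, hy]
    let z : Z ⟶ Y := Over.homMk (pullback.lift p.left q.left (congrArg (fun t => t.left) hpq)) (by
      change pullback.lift p.left q.left _ ≫ pullback.fst i.b.left k.b.left ≫ i.W.hom = Z.hom
      rw [pullback.lift_fst_assoc]
      exact Over.w p)
    have hz1 : z ≫ y₁ = p := by
      ext1
      exact pullback.lift_fst _ _ _
    have hz2 : z ≫ y₂ = q := by
      ext1
      exact pullback.lift_snd _ _ _
    change (Lpre hσ G).map p.op (m i) = (Lpre hσ G).map q.op (m k)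
    rw [← hz1, ← hz2, op_comp, op_comp, Functor.map_comp, Functor.map_comp]
    exact congrArg ((Lpre hσ G).map z.op) h0)
  refine ⟨t, ?_⟩
  refine K570.Cov.sep (CGrpSh.isSheaf_ptsPre (Scheme.precoverage Q) G) _ (cover Q hcov U) _ _ fun i => ?_
  change (CGrpSh.ptsPre G).map i.b.op _ = (CGrpSh.ptsPre G).map i.b.op n
  rw [← hnat, ← hm i]
  exact congrArg _ (ht i)

end flat

end K186.LieFlat
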