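import Groth.Agent.CGrpSh.K186.LieMain

/-!
# The kernel of restriction to a square-zero closed subscheme on flat schemes
-/

set_option autoImplicit false
set_option linter.style.haveILetI false
set_option linter.unusedSectionVars false

universe u

open CategoryTheory CategoryTheory.Limits AlgebraicGeometry Opposite MonObj
open K186.Pinch K186.RD K186.AffPt K186.Geo K186.Lie K186.LieAff K186.Big
open Groth.Agent.Books.AffBridge K809.KerGrp K186.LieMod K186.LieFlat K186.LieMain

namespace K186.LieIso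

variable {T T' P : Scheme.{u}} {π : P ⟶ T} {σ τ : T ⟶ P} {G : Over T} [GrpObj G] [IsCommMonObj G]
  (hσ : σ ≫ π = 𝟙 T) (hτ : τ ≫ π = 𝟙 T) {j : T' ⟶ T} [IsClosedImmersion j] (hj : j ≫ σ = j ≫ τ) [IsAffineHom π]
  (Q : MorphismProperty Scheme.{u}) [Gd Q] [BigSite.OSh (Scheme.precoverage Q)]
  [(QuotSh.J (Scheme.precoverage Q) T).Subcanonical]
  (hcov : ∀ x : T, ∃ c : GC π σ τ G, Nonempty (JC j c.f c.a) ∧ x ∈ Set.range c.f)

include hcov in
lemma hcov' (x : T) : ∃ c : GC π σ τ G, x ∈ Set.range c.f := by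
  obtain ⟨c, -, hc⟩ := hcov x
  exact ⟨c, hc⟩

/-- the module of infinitesimal points -/
noncomputable abbrev Mod : BigSite.Mod (Scheme.precoverage Q) T := Mo hσ hτ Q (hcov' hcov)

/-- the restriction of infinitesimal points to the second section -/
noncomputable def ΨSh : (BigSite.toAbMod (Scheme.precoverage Q) T).obj (Mod hσ hτ Q hcov) ⟶
    CGrpSh.pts (Scheme.precoverage Q) G := ⟨LΨ hσ G hτ⟩

include hj in
lemma ΨSh_unit : ΨSh hσ hτ Q hcov ≫ (BigSite.bigAdj (Scheme.precoverage Q) j AddCommGrpCat.{u + 1}).unit.app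
    (CGrpSh.pts (Scheme.precoverage Q) G) = 0 := by
  refine Sheaf.hom_ext (NatTrans.ext (funext fun U => AddCommGrpCat.ext fun x => ?_))
  exact Ψ_mem hσ hτ hj U.unop x

/-- the comparison -/
noncomputable def Θ : (BigSite.toAbMod (Scheme.precoverage Q) T).obj (Mod hσ hτ Q hcov) ⟶
    kernel ((BigSite.bigAdj (Scheme.precoverage Q) j AddCommGrpCat.{u + 1}).unit.app
      (CGrpSh.pts (Scheme.precoverage Q) G)) :=
  kernel.lift _ (ΨSh hσ hτ Q hcov) (ΨSh_unit hσ hτ hj Q hcov)

lemma kernel_inj {K : Precoverage Scheme.{u}} {F F' : BigSite.Ab K T} (g : F ⟶ F') (U : Over T) :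
    Function.Injective ((kernel.ι g).hom.app (op U)) := by
  have h1 : Mono ((sheafToPresheaf _ _).map (kernel.ι g)) := inferInstance
  have h2 : Mono (((sheafToPresheaf _ _).map (kernel.ι g)).app (op U)) := inferInstance
  exact (AddCommGrpCat.mono_iff_injective _).1 h2

theorem Θ_bijective (U : Over T) (hU : Flat U.hom) :
    Function.Bijective ((Θ hσ hτ hj Q hcov).hom.app (op U)) := by
  have hk : ∀ x, (kernel.ι ((BigSite.bigAdj (Scheme.precoverage Q) j AddCommGrpCat.{u + 1}).unit.app
      (CGrpSh.pts (Scheme.precoverage Q) G))).hom.app (op U) ((Θ hσ hτ hj Q hcov).hom.app (op U) x) =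
      (LΨ hσ G hτ).app (op U) x := by
    intro x
    have h := kernel.lift_ι ((BigSite.bigAdj (Scheme.precoverage Q) j AddCommGrpCat.{u + 1}).unit.app
      (CGrpSh.pts (Scheme.precoverage Q) G)) (ΨSh hσ hτ Q hcov) (ΨSh_unit hσ hτ hj Q hcov)
    have h2 := congrArg (fun t => t.hom.app (op U)) h
    exact DFunLike.congr_fun (congrArg AddCommGrpCat.Hom.hom h2) x
  constructor
  · refine (injective_iff_map_eq_zero ((Θ hσ hτ hj Q hcov).hom.app (op U)).hom).2 fun x hx => ?_
    refine Ψ_inj hσ hτ Q hcov U hU x ?_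
    rw [← hk]
    exact (congrArg _ hx).trans (map_zero _)
  · intro y
    obtain ⟨x, hx⟩ := Ψ_surj hσ hτ hj Q hcov U hU ((kernel.ι ((BigSite.bigAdj (Scheme.precoverage Q) j
      AddCommGrpCat.{u + 1}).unit.app (CGrpSh.pts (Scheme.precoverage Q) G))).hom.app (op U) y) (by
        have h := kernel.condition ((BigSite.bigAdj (Scheme.precoverage Q) j AddCommGrpCat.{u + 1}).unit.app
          (CGrpSh.pts (Scheme.precoverage Q) G))
        have h2 := congrArg (fun t => t.hom.app (op U)) h
        exact DFunLike.congr_fun (congrArg AddCommGrpCat.Hom.hom h2) y)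
    refine ⟨x, kernel_inj _ U ?_⟩
    exact (hk x).trans hx

include hj in
/-- The natural isomorphism on flat schemes. -/
theorem exists_iso : Nonempty ((ObjectProperty.ι (fun U : Over T => Flat U.hom)).op ⋙
          (kernel ((BigSite.bigAdj (Scheme.precoverage Q) j AddCommGrpCat.{u + 1}).unit.app
            (CGrpSh.pts (Scheme.precoverage Q) G))).obj ≅
        (ObjectProperty.ι (fun U : Over T => Flat U.hom)).op ⋙
          ((BigSite.toAbMod (Scheme.precoverage Q) T).obj (Mod hσ hτ Q hcov)).obj) := by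
  let α := Functor.whiskerLeft (ObjectProperty.ι (fun U : Over T => Flat U.hom)).op (Θ hσ hτ hj Q hcov).hom
  have h : ∀ U, IsIso (α.app U) := fun U => by
    refine (ConcreteCategory.isIso_iff_bijective _).2 ?_
    exact Θ_bijective hσ hτ hj Q hcov U.unop.obj U.unop.property
  have : IsIso α := NatIso.isIso_of_isIso_app α
  exact ⟨(asIso α).symm⟩

end K186.LieIso
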