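import Groth.Agent.CGrpSh.K186.LieFlat
import Groth.Agent.TateLoc.K809.CaSmooth

/-!
# Charts of the pinching, and the comparison with the kernel of restriction to a square-zero closed subscheme
-/

set_option autoImplicit false
set_option linter.style.haveILetI false
set_option linter.unusedSectionVars false

universe u

open CategoryTheory CategoryTheory.Limits AlgebraicGeometry Opposite MonObj
open K186.Pinch K186.RD K186.AffPt K186.Geo K186.Lie K186.LieAff K186.Big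
open Groth.Agent.Books.AffBridge K809.KerGrp K186.LieMod K186.LieFlat

namespace K186.LieMain

variable {T T' : Scheme.{u}} (j : T' ⟶ T) [IsClosedImmersion j]

lemma fromSpec_comp {V : T.Opens} (hV : IsAffineOpen V) :
    (hV.preimage j).fromSpec ≫ j = Spec.map (j.app V) ≫ hV.fromSpec := by
  rw [Scheme.Hom.app_eq_appLE, hV.SpecMap_appLE_fromSpec j (hV.preimage j)]

theorem isPullback_fromSpec {V : T.Opens} (hV : IsAffineOpen V) :
    IsPullback (hV.preimage j).fromSpec (Spec.map (j.app V)) j hV.fromSpec := by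
  refine (isPullback_morphismRestrict j V).flip.of_iso (hV.preimage j).isoSpec (Iso.refl _) hV.isoSpec (Iso.refl _)
    ?_ ?_ ?_ ?_
  · rw [IsAffineOpen.isoSpec_hom_fromSpec]
    exact Category.comp_id _
  · rw [← cancel_mono hV.fromSpec, Category.assoc, Category.assoc, IsAffineOpen.isoSpec_hom_fromSpec, ← fromSpec_comp,
      IsAffineOpen.isoSpec_hom_fromSpec_assoc]
    exact morphismRestrict_ι j V
  · exact (Category.comp_id _).trans (Category.id_comp _).symm
  · rw [IsAffineOpen.isoSpec_hom_fromSpec]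
    exact Category.comp_id _

lemma app_mem {V : T.Opens} (hV : IsAffineOpen V) (x : Γ(T, V)) (hx : x ∈ j.ker.ideal ⟨V, hV⟩) : (j.app V).hom x = 0 := by
  have h := j.ker_apply ⟨V, hV⟩
  rw [h] at hx
  exact hx

theorem j_σ : j ≫ σ j.ker = j ≫ τ j.ker := by
  refine Scheme.Cover.hom_ext (T'.openCoverOfIsOpenCover _
    (.comap (iSup_affineOpens_eq_top T) j.base.hom)) _ _ fun U ↦ ?_
  have hV : IsAffineOpen (U.1 : T.Opens) := U.2
  change (j ⁻¹ᵁ U.1).ι ≫ j ≫ σ j.ker = (j ⁻¹ᵁ U.1).ι ≫ j ≫ τ j.ker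
  have h1 : (j ⁻¹ᵁ U.1).ι = (j ⁻¹ᵁ U.1).toSpecΓ ≫ (hV.preimage j).fromSpec := ((hV.preimage j).toSpecΓ_fromSpec).symm
  have h2 := fromSpec_comp j hV
  rw [h1, Category.assoc, Category.assoc, reassoc_of% h2, reassoc_of% h2, fromSpec_σ, fromSpec_τ,
    ← Spec.map_comp_assoc, ← Spec.map_comp_assoc]
  congr 3
  refine CommRingCat.hom_ext (RingHom.ext fun z => ?_)
  change (j.app U.1).hom z.1.1 = (j.app U.1).hom z.1.2
  rw [← sub_eq_zero, ← map_sub]
  exact app_mem j hV _ z.2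

section charts

variable (hj : j.ker * j.ker = ⊥) (G : Over T) [GrpObj G] [IsCommMonObj G] [Smooth G.hom]

/-- the chart of the closed subscheme -/
noncomputable def jc {V : T.Opens} (hV : IsAffineOpen V) :
    JC (A := Γ(T, V)) j hV.fromSpec (j.ker.ideal ⟨V, hV⟩) where
  A₀ := Γ(T', j ⁻¹ᵁ V)
  φ := (j.app V).hom
  hφ := j.app_surjective V hV
  ker := (j.ker_apply ⟨V, hV⟩).symm
  ι₀ := (hV.preimage j).fromSpec
  pb := isPullback_fromSpec j hV

/-- the chart of the pinching -/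
noncomputable def pc {V : T.Opens} (hV : IsAffineOpen V) :
    Chart (A := Γ(T, V)) (π j.ker) (σ j.ker) (τ j.ker) hV.fromSpec (j.ker.ideal ⟨V, hV⟩) where
  «ι» := K186.Pinch.«ι» hV
  pb := isPullback_ι j.ker hV
  hσ := fromSpec_σ j.ker hV
  hτ := fromSpec_τ j.ker hV

include hj in
lemma ideal_sq {V : T.Opens} (hV : IsAffineOpen V) :
    ∀ x ∈ j.ker.ideal ⟨V, hV⟩, ∀ y ∈ j.ker.ideal ⟨V, hV⟩, x * y = 0 := by
  intro x hx y hy
  have h : (j.ker * j.ker).ideal ⟨V, hV⟩ = ⊥ := by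
    rw [hj]
    rfl
  have h2 : x * y ∈ (j.ker * j.ker).ideal ⟨V, hV⟩ := Ideal.mul_mem_mul hx hy
  rw [h] at h2
  exact h2

include hj in
theorem exists_chart (x : T) : ∃ c : GC (π j.ker) (σ j.ker) (τ j.ker) G, Nonempty (JC j c.f c.a) ∧ x ∈ Set.range c.f := by
  obtain ⟨X₂, O₂, hX₂, hO₂, hx₂, hle₂, hη₂⟩ := K809.AffNhd.exists_unit_nhd G.hom (K809.CaSmooth.unitSec G)
    (K809.CaSmooth.unitSec_hom G) x
  let A : Type u := Γ(T, X₂)
  let f : Spec (CommRingCat.of A) ⟶ T := hX₂.fromSpec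
  have hf : IsOpenImmersion f := inferInstanceAs (IsOpenImmersion hX₂.fromSpec)
  have hr : Set.range f = X₂ := hX₂.range_fromSpec
  have hfX₂ : Set.range f ⊆ X₂ := hr.le
  have hO₀ : IsAffineOpen ((pullback.fst G.hom f) ⁻¹ᵁ O₂) :=
    K809.AffNhd.isAffineOpen_preimage G.hom f hX₂ hfX₂ hO₂ hle₂
  have hsm : Smooth (Red.bc f G).hom := inferInstanceAs (Smooth (pullback.snd G.hom f))
  obtain ⟨E₀, _, _, _, j₀, hj₀, hr₀⟩ := K809.CaLocal.exists_chart_of_isAffineOpen (Red.bc f G) _ hO₀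
  obtain ⟨ε, hε⟩ := K809.CaLocal.exists_fac j₀ (1 : SpecOver A A ⟶ Red.bc f G) (by
    rw [hr₀]
    rintro _ ⟨w, rfl⟩
    have h1 : ((1 : SpecOver A A ⟶ Red.bc f G).left ≫ pullback.fst G.hom f) w =
      K809.CaSmooth.unitSec G (f ((SpecOver A A).hom w)) := by rw [K809.CaSmooth.one_bc_fst]; rfl
    have h2 : K809.CaSmooth.unitSec G (f ((SpecOver A A).hom w)) ∈ O₂ := hη₂ (hfX₂ ⟨_, rfl⟩)
    rw [← h1] at h2
    exact h2)
  refine ⟨{ A := A, f := f, a := j.ker.ideal ⟨X₂, hX₂⟩, ha := ideal_sq j hj hX₂, c := pc j hX₂, E := E₀, j := j₀,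
            ε := ε, hε := hε }, ⟨jc j hX₂⟩, ?_⟩
  change x ∈ Set.range f
  rw [hr]
  exact hx₂

end charts

end K186.LieMain
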