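import Groth.Agent.CGrpSh.K186.LieAff
import Groth.Agent.BigSite.K186.Big

/-!
# The quasi-coherent module of infinitesimal points
-/

set_option autoImplicit false
set_option linter.style.haveILetI false
set_option linter.unusedSectionVars false

universe u

open CategoryTheory CategoryTheory.Limits AlgebraicGeometry Opposite MonObj
open Groth.Agent.Etbase.FFExact K186.BCAlg K186.Pinch K186.RD K186.AffPt K186.Geo K186.Lie K186.LieAff K186.Big K186.Aff
open Groth.Agent.Books.AffBridge K809.KerGrp K186.ModExt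

namespace K186.LieMod

variable {T P : Scheme.{u}} (π : P ⟶ T) (σ τ : T ⟶ P) (G : Over T) [GrpObj G] [IsCommMonObj G]

/-- charts of `T`, `P` and `G` -/
structure GC where
  /-- functions on the chart of `T` -/
  A : Type u
  [cA : CommRing A]
  /-- the chart of `T` -/
  f : Spec (CommRingCat.of A) ⟶ T
  [hf : IsOpenImmersion f]
  /-- the ideal -/
  a : Ideal A
  ha : ∀ x ∈ a, ∀ y ∈ a, x * y = 0
  /-- the chart of `P` -/
  c : Chart π σ τ f a
  /-- functions on the chart of `G` -/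
  E : Type u
  [cE : CommRing E]
  [aE : Algebra A E]
  [sE : Algebra.Smooth A E]
  /-- the chart of `G` -/
  j : SpecOver A E ⟶ Red.bc f G
  [hj : IsOpenImmersion j.left]
  /-- the unit section -/
  ε : E →ₐ[A] A
  hε : specMap A ε ≫ j = 1

attribute [instance] GC.cA GC.hf GC.cE GC.aE GC.sE GC.hj

/-- objects over charts -/
def Ch (U : Over T) : Prop := IsAffine U.left ∧ ∃ g : GC π σ τ G, Nonempty (U ⟶ Over.mk g.f)

variable {π σ τ G}

lemma Ch.of_hom {U V : Over T} (hU : Ch π σ τ G U) (hV : IsAffine V.left) (g : V ⟶ U) : Ch π σ τ G V := by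
  obtain ⟨h1, c, ⟨u⟩⟩ := hU
  exact ⟨hV, c, ⟨g ≫ u⟩⟩

variable [IsAffineHom π] (hσ : σ ≫ π = 𝟙 T) (hτ : τ ≫ π = 𝟙 T)

include hτ in
lemma Ch.sq {U : Over T} (hU : Ch π σ τ G U) : Sq hσ U := by
  obtain ⟨h1, c, ⟨u⟩⟩ := hU
  exact LieAff.sq hσ hτ c.ha c.c (⟨U, h1, u⟩ : Ob c.f)

variable (Q : MorphismProperty Scheme.{u}) [Gd Q] [BigSite.OSh (Scheme.precoverage Q)]
  [(QuotSh.J (Scheme.precoverage Q) T).Subcanonical]

/-- functions on `U` as lifted elements -/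
abbrev dn {U : Over T} (b : (BigSite.ORing (Scheme.precoverage Q) T).obj.obj (op U)) : O U :=
  (show ULift.{u + 1} (O U) from b).down

/-- the action of functions on infinitesimal points -/
noncomputable def act {U : Over T} (hU : Sq hσ U) (hA : IsAffine U.left) (b : O U) (x : (Lpre hσ G).obj (op U)) :
    (Lpre hσ G).obj (op U) :=
  ⟨(CGrpSh.ptsPre G).map (mE hU hA b).op (show LG hσ G U from x).1, by
    rw [mem_LG, pmap_pmap, sec_mE]
    exact mem_LG.1 (show LG hσ G U from x).2⟩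

lemma act_val {U : Over T} (hU : Sq hσ U) (hA : IsAffine U.left) (b : O U) (x : (Lpre hσ G).obj (op U)) :
    (show LG hσ G U from act hσ hU hA b x).1 = (CGrpSh.ptsPre G).map (mE hU hA b).op (show LG hσ G U from x).1 := rfl

lemma act_nat {U V : Over T} (hU : Sq hσ U) (hA : IsAffine U.left) (hV : Sq hσ V) (hB : IsAffine V.left) (g : V ⟶ U)
    (b : O U) (x : (Lpre hσ G).obj (op U)) :
    (Lpre hσ G).map g.op (act hσ hU hA b x) = act hσ hV hB (g.left.appTop.hom b) ((Lpre hσ G).map g.op x) := by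
  refine Subtype.ext ?_
  change (CGrpSh.ptsPre G).map ((EE π).map g).op ((CGrpSh.ptsPre G).map (mE hU hA b).op (show LG hσ G U from x).1) =
    (CGrpSh.ptsPre G).map (mE hV hB (g.left.appTop.hom b)).op
      ((CGrpSh.ptsPre G).map ((EE π).map g).op (show LG hσ G U from x).1)
  rw [pmap_pmap, pmap_pmap, mE_nat hU hA hV hB]

section chart

variable (c : GC π σ τ G) (U : Ob c.f)

/-- infinitesimal points are derivations -/
noncomputable def eC : Der c.ε (dt hσ hτ c.c U).J ≃+ (Lpre hσ G).obj (op U.X) :=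
  eU hσ hτ G c.ha c.c c.j c.hε U

lemma act_eC (hU : Sq hσ U.X) (b : U.S) (δ : Der c.ε (dt hσ hτ c.c U).J) :
    act hσ hU U.aff b (eC hσ hτ c U δ) = eC hσ hτ c U (mulDer ((dt hσ hτ c.c U).β b) δ) :=
  Subtype.ext (smul_eU hσ hτ G c.ha c.c c.j c.hε U b δ)

lemma map_eC {U' : Ob c.f} (g : U'.X ⟶ U.X) (δ : Der c.ε (dt hσ hτ c.c U).J) :
    (Lpre hσ G).map g.op (eC hσ hτ c U δ) = eC hσ hτ c U' ⟨(dtHom hσ hτ c.c g).h.toLinearMap.comp δ.1,
        comp_mem _ (dtHom hσ hτ c.c g).mem δ.2⟩ :=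
  Subtype.ext (map_eU hσ hτ G c.ha c.c c.j c.hε g δ)

end chart

lemma add_act {U : Over T} (hU : Ch π σ τ G U) (b b' : O U) (x : (Lpre hσ G).obj (op U)) :
    act hσ (hU.sq hσ hτ) hU.1 (b + b') x = act hσ (hU.sq hσ hτ) hU.1 b x + act hσ (hU.sq hσ hτ) hU.1 b' x := by
  obtain ⟨h1, c, ⟨u⟩⟩ := id hU
  let X : Ob c.f := ⟨U, h1, u⟩
  obtain ⟨δ, rfl⟩ := (eC hσ hτ c X).surjective x
  have h2 := act_eC hσ hτ c X (hU.sq hσ hτ)
  refine (h2 (b + b') δ).trans ?_
  refine Eq.trans ?_ (congrArg₂ (· + ·) (h2 b δ) (h2 b' δ)).symm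
  rw [← map_add]
  congr 1
  refine Subtype.ext (LinearMap.ext fun y => ?_)
  change (dt hσ hτ c.c X).β (b + b') * δ.1 y = (dt hσ hτ c.c X).β b * δ.1 y + (dt hσ hτ c.c X).β b' * δ.1 y
  rw [← add_mul]
  congr 1
  exact map_add (dt hσ hτ c.c X).β b b'

variable (hcov : ∀ x : T, ∃ c : GC π σ τ G, x ∈ Set.range c.f)

include hcov in
theorem exists_sieve (U : Over T) : ∃ S : Sieve U, S ∈ QuotSh.J (Scheme.precoverage Q) T U ∧ ∀ ⦃V : Over T⦄ (g : V ⟶ U), S g →
    ∃ (W : Over T) (a : V ⟶ W) (b : W ⟶ U), Ch π σ τ G W ∧ IsOpenImmersion b.left ∧ a ≫ b = g := by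
  let S : Sieve U :=
    { arrows := fun V g => ∃ (W : Over T) (a : V ⟶ W) (b : W ⟶ U), Ch π σ τ G W ∧ IsOpenImmersion b.left ∧ a ≫ b = g
      downward_closed := by
        rintro V V' g ⟨W, a, b, hW, hb, rfl⟩ h
        exact ⟨W, h ≫ a, b, hW, hb, Category.assoc _ _ _⟩ }
  refine ⟨S, ?_, fun V g hg => hg⟩
  rw [K570.Cov.mem_J_iff]
  intro x
  obtain ⟨c, hc⟩ := hcov (U.hom x)
  obtain ⟨W, hW, hxW, hle⟩ := exists_isAffineOpen_mem_and_subset (x := x) (U := U.hom ⁻¹ᵁ c.f.opensRange) hc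
  let Y : Over T := Over.mk (W.ι ≫ U.hom)
  let i : Y ⟶ U := Over.homMk W.ι rfl
  have hr : Set.range (W.ι ≫ U.hom) ⊆ Set.range c.f := by
    rintro _ ⟨y, rfl⟩
    have h1 : W.ι y ∈ W := y.2
    exact hle h1
  let u : Y ⟶ Over.mk c.f := Over.homMk (IsOpenImmersion.lift c.f (W.ι ≫ U.hom) hr)
    (IsOpenImmersion.lift_fac c.f (W.ι ≫ U.hom) hr)
  have hi : IsOpenImmersion i.left := inferInstanceAs (IsOpenImmersion W.ι)
  exact ⟨Y, i, ⟨Y, 𝟙 _, i, ⟨hW, c, ⟨u⟩⟩, hi, Category.id_comp _⟩, Gd.hz _ hi, ⟨x, hxW⟩, rfl⟩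

/-- the module structure -/
noncomputable def aff : AffMod (BigSite.ORing (Scheme.precoverage Q) T) (Lpre hσ G) (Ch π σ τ G) where
  hF := isSheaf_Lpre hσ G (Scheme.precoverage Q)
  loc U := by
    obtain ⟨S, hS, h⟩ := exists_sieve Q hcov U
    refine ⟨S, hS, fun V g hg => ?_⟩
    obtain ⟨W, a, b, h1, -, h2⟩ := h g hg
    exact ⟨W, a, b, h1, h2⟩
  sm {U} hU b x := act hσ (hU.sq hσ hτ) hU.1 (dn Q b) x
  sm_add {U} hU b x y := Subtype.ext (map_add ((CGrpSh.ptsPre G).map (mE (hU.sq hσ hτ) hU.1 (dn Q b)).op).hom _ _)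
  add_sm {U} hU b b' x := add_act hσ hτ hU (dn Q b) (dn Q b') x
  one_sm {U} hU x := Subtype.ext (by
    change (CGrpSh.ptsPre G).map (mE (hU.sq hσ hτ) hU.1 1).op (show LG hσ G U from x).1 = (show LG hσ G U from x).1
    rw [mE_one, op_id, CategoryTheory.Functor.map_id]
    rfl)
  mul_sm {U} hU b b' x := Subtype.ext (by
    change (CGrpSh.ptsPre G).map (mE (hU.sq hσ hτ) hU.1 (dn Q b * dn Q b')).op (show LG hσ G U from x).1 =
      (CGrpSh.ptsPre G).map (mE (hU.sq hσ hτ) hU.1 (dn Q b)).op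
        ((CGrpSh.ptsPre G).map (mE (hU.sq hσ hτ) hU.1 (dn Q b')).op (show LG hσ G U from x).1)
    rw [mE_mul, pmap_pmap])
  nat {U V} hU hV g b x := act_nat hσ (hU.sq hσ hτ) hU.1 (hV.sq hσ hτ) hV.1 g (dn Q b) x

/-- The module of infinitesimal points. -/
noncomputable def Mo : BigSite.Mod (Scheme.precoverage Q) T := (aff hσ hτ Q hcov).mod

lemma Mo_smul {U : Over T} (hU : Ch π σ τ G U) (b : (BigSite.ORing (Scheme.precoverage Q) T).obj.obj (op U))
    (x : (Mo hσ hτ Q hcov).val.obj (op U)) :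
    (b • x : (Mo hσ hτ Q hcov).val.obj (op U)) =
      (show (Mo hσ hτ Q hcov).val.obj (op U) from act hσ (hU.sq hσ hτ) hU.1 (dn Q b) (show (Lpre hσ G).obj (op U) from x)) :=
  (aff hσ hτ Q hcov).smul_aff hU b x

/-- sections of modules as modules over lifted rings of functions -/
@[implicit_reducible] noncomputable def modInst (M : BigSite.Mod (Scheme.precoverage Q) T) (U : Over T) :
    Module (ULift.{u + 1} (O U)) (M.val.obj (op U)) :=
  inferInstanceAs (Module ((BigSite.ORing (Scheme.precoverage Q) T).obj.obj (op U)) (M.val.obj (op U)))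

/-- Base change for infinitesimal points over charts. -/
theorem bcat_Mo {U : Over T} (hU : Ch π σ τ G U) : BCat (Mo hσ hτ Q hcov) (AffO T) U := by
  intro V g hV
  have hV' := hU.of_hom hV g
  obtain ⟨h1, c, ⟨u⟩⟩ := id hU
  let X : Ob c.f := ⟨U, h1, u⟩
  let Y : Ob c.f := ⟨V, hV, g ≫ u⟩
  let g' : Y.X ⟶ X.X := g
  letI i1 : Module (ULift.{u + 1} X.S) ((Mo hσ hτ Q hcov).val.obj (op U)) := modInst Q (Mo hσ hτ Q hcov) U
  letI i2 : Module (ULift.{u + 1} Y.S) ((Mo hσ hτ Q hcov).val.obj (op V)) := modInst Q (Mo hσ hτ Q hcov) V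
  have h := bc_der (dtHom hσ hτ c.c g') (X := (Mo hσ hτ Q hcov).val.obj (op U)) (X' := (Mo hσ hτ Q hcov).val.obj (op V))
    (ε := c.ε) (eC hσ hτ c X) (eC hσ hτ c Y)
    (fun b δ => ((Mo_smul hσ hτ Q hcov hU (ULift.up b) (eC hσ hτ c X δ)).trans
      (act_eC hσ hτ c X (hU.sq hσ hτ) b δ)).symm)
    (fun b δ => ((Mo_smul hσ hτ Q hcov hV' (ULift.up b) (eC hσ hτ c Y δ)).trans
      (act_eC hσ hτ c Y (hV'.sq hσ hτ) b δ)).symm)
    (rsA (Mo hσ hτ Q hcov) g) (fun δ => map_eC hσ hτ c X g' δ)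
  exact h

theorem isQuasicoherent_Mo : (Mo hσ hτ Q hcov).IsQuasicoherent := by
  rw [isQuasicoherent_iff_big]
  intro U hU
  obtain ⟨S, hS, h⟩ := exists_sieve Q hcov U
  refine bcat_of_local (affSite Q T) hU S hS ?_
  intro V g hg hV
  obtain ⟨W, a, b, h1, -, h2⟩ := h g hg
  exact bcat_Mo hσ hτ Q hcov (h1.of_hom hV a)

end K186.LieMod
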