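import Groth.Agent.CohqB.RelSpec
import Mathlib.AlgebraicGeometry.IdealSheaf.Basic
import Mathlib.AlgebraicGeometry.IdealSheaf.Functorial

/-!
# The pinching `T ∐_{T'} T` of a scheme along an ideal sheaf

`PR I = {(s,t) ∈ R × R : s - t ∈ I}`; for an ideal sheaf `I` on `T` the relative spectrum `K186.Pinch.P I` of the
algebra `PR I` with its structure morphism `π` and the two sections `σ`, `τ : T ⟶ P I`.
-/

set_option autoImplicit false
set_option linter.style.haveILetI false

universe u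

open CategoryTheory CategoryTheory.Limits AlgebraicGeometry Opposite

namespace K186.Pinch

section Ring

variable {R : Type u} [CommRing R] (I : Ideal R)

/-- pairs of functions which agree modulo `I` -/
def PR : Subring (R × R) where
  carrier := {p | p.1 - p.2 ∈ I}
  mul_mem' := by
    rintro ⟨a, b⟩ ⟨c, d⟩ h h'
    change a * c - b * d ∈ I
    have : a * c - b * d = (a - b) * c + b * (c - d) := by ring
    rw [this]
    exact I.add_mem (I.mul_mem_right _ h) (I.mul_mem_left _ h')
  one_mem' := by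
    change (1 : R) - 1 ∈ I
    rw [sub_self]
    exact I.zero_mem
  add_mem' := by
    rintro ⟨a, b⟩ ⟨c, d⟩ h h'
    change a + c - (b + d) ∈ I
    have : a + c - (b + d) = (a - b) + (c - d) := by ring
    rw [this]
    exact I.add_mem h h'
  zero_mem' := by
    change (0 : R) - 0 ∈ I
    rw [sub_self]
    exact I.zero_mem
  neg_mem' := by
    rintro ⟨a, b⟩ h
    change -a - -b ∈ I
    have : -a - -b = -(a - b) := by ring
    rw [this]
    exact I.neg_mem h

/-- diagonal -/
def dg : R →+* PR I := ((RingHom.id R).prod (RingHom.id R)).codRestrict (PR I) (fun r => by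
  change r - r ∈ I
  rw [sub_self]
  exact I.zero_mem)

/-- first projection -/
def p₁ : PR I →+* R := (RingHom.fst R R).comp (PR I).subtype

/-- second projection -/
def p₂ : PR I →+* R := (RingHom.snd R R).comp (PR I).subtype

variable {R' : Type u} [CommRing R'] {I} {I' : Ideal R'}

/-- functoriality -/
def PRmap (φ : R →+* R') (h : ∀ x ∈ I, φ x ∈ I') : PR I →+* PR I' :=
  ((φ.comp (p₁ I)).prod (φ.comp (p₂ I))).codRestrict (PR I') (fun r => by
    change φ r.1.1 - φ r.1.2 ∈ I'
    rw [← map_sub]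
    exact h _ r.2)

lemma PRmap_val (φ : R →+* R') (h : ∀ x ∈ I, φ x ∈ I') (x : PR I) : (PRmap φ h x).1 = (φ x.1.1, φ x.1.2) := rfl

/-- Localization. -/
theorem isLocalization_PRmap (φ : R →+* R') (r : R)
    (hφ : letI := φ.toAlgebra; IsLocalization.Away r R') (hI : I.map φ = I')
    (h : ∀ x ∈ I, φ x ∈ I') :
    letI := (PRmap φ h).toAlgebra
    IsLocalization.Away (dg I r) (PR I') := by
  letI i1 : Algebra R R' := φ.toAlgebra
  letI i2 : Algebra (PR I) (PR I') := (PRmap φ h).toAlgebra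
  have hal : ∀ x : PR I, algebraMap (PR I) (PR I') x = PRmap φ h x := fun _ => rfl
  have hR : IsLocalization (Submonoid.powers r) R' := hφ
  have hru : IsUnit (φ r) := IsLocalization.Away.algebraMap_isUnit (S := R') r
  have hmem : ∀ y ∈ I', ∃ (n : ℕ) (x : R), x ∈ I ∧ y * φ r ^ n = φ x := by
    intro y hy
    rw [← hI] at hy
    rw [show φ = algebraMap R R' from rfl, IsLocalization.mem_map_algebraMap_iff (Submonoid.powers r)] at hy
    obtain ⟨⟨⟨x, hx⟩, ⟨_, n, rfl⟩⟩, e⟩ := hy
    refine ⟨n, x, hx, ?_⟩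
    have e' : y * algebraMap R R' (r ^ n) = algebraMap R R' x := e
    rw [map_pow] at e'
    exact e'
  refine ⟨?_, ?_, ?_⟩
  · rintro ⟨_, n, rfl⟩
    change IsUnit (algebraMap (PR I) (PR I') (dg I r ^ n))
    rw [map_pow]
    refine IsUnit.pow n ?_
    obtain ⟨v, hv⟩ := hru.exists_right_inv
    refine IsUnit.of_mul_eq_one (dg I' v) (Subtype.ext (Prod.ext hv hv))
  · intro z
    obtain ⟨s, t, hst⟩ : ∃ s t, z.1 = (s, t) := ⟨z.1.1, z.1.2, rfl⟩
    obtain ⟨⟨s', ⟨_, n, rfl⟩⟩, hs⟩ := IsLocalization.surj (Submonoid.powers r) s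
    have hd : s - t ∈ I' := by
      have := z.2
      change z.1.1 - z.1.2 ∈ I' at this
      rw [hst] at this
      exact this
    obtain ⟨m, x, hx, hxm⟩ := hmem _ hd
    have hs' : s * φ r ^ n = φ s' := by
      have e' : s * algebraMap R R' (r ^ n) = algebraMap R R' s' := hs
      rw [map_pow] at e'
      exact e'
    refine ⟨⟨⟨(r ^ m * s', r ^ m * s' - r ^ n * x), ?_⟩, ⟨dg I r ^ (n + m), n + m, rfl⟩⟩, ?_⟩
    · change r ^ m * s' - (r ^ m * s' - r ^ n * x) ∈ I
      rw [sub_sub_cancel]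
      exact I.mul_mem_left _ hx
    · rw [hal, hal, map_pow]
      refine Subtype.ext (Prod.ext ?_ ?_)
      · change z.1.1 * (φ r) ^ (n + m) = φ (r ^ m * s')
        rw [hst, map_mul, map_pow, ← hs']
        ring
      · change z.1.2 * (φ r) ^ (n + m) = φ (r ^ m * s' - r ^ n * x)
        rw [hst, map_sub, map_mul, map_mul, map_pow, map_pow, ← hs', ← hxm]
        ring
  · intro x y hxy
    rw [hal, hal] at hxy
    have h1 : φ x.1.1 = φ y.1.1 := congrArg (fun z => z.1.1) hxy
    have h2 : φ x.1.2 = φ y.1.2 := congrArg (fun z => z.1.2) hxy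
    obtain ⟨⟨_, n, rfl⟩, hn⟩ := (IsLocalization.eq_iff_exists (Submonoid.powers r) R').1 h1
    obtain ⟨⟨_, m, rfl⟩, hm⟩ := (IsLocalization.eq_iff_exists (Submonoid.powers r) R').1 h2
    refine ⟨⟨dg I r ^ (n + m), n + m, rfl⟩, ?_⟩
    have hn' : r ^ n * x.1.1 = r ^ n * y.1.1 := hn
    have hm' : r ^ m * x.1.2 = r ^ m * y.1.2 := hm
    refine Subtype.ext (Prod.ext ?_ ?_)
    · change r ^ (n + m) * x.1.1 = r ^ (n + m) * y.1.1
      linear_combination r ^ m * hn'
    · change r ^ (n + m) * x.1.2 = r ^ (n + m) * y.1.2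
      linear_combination r ^ n * hm'

end Ring

section Scheme

open Groth.Agent.CohqB

variable {T : Scheme.{u}} (I : T.IdealSheafData)

/-- the underlying affine open -/
abbrev af (U : T.AffineZariskiSite) : T.affineOpens := ⟨U.toOpens, U.2⟩

lemma res_mem {U V : T.AffineZariskiSite} (i : V ⟶ U) (x : Γ(T, U.toOpens)) (hx : x ∈ I.ideal (af U)) :
    (T.presheaf.map (homOfLE (Scheme.AffineZariskiSite.toOpens_mono i.le)).op).hom x ∈ I.ideal (af V) := by
  have h := I.map_ideal (U := af V) (V := af U) (Scheme.AffineZariskiSite.toOpens_mono i.le)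
  rw [← h]
  exact Ideal.mem_map_of_mem _ hx

/-- the algebra of pairs of functions agreeing modulo `I` -/
def F : T.AffineZariskiSiteᵒᵖ ⥤ CommRingCat.{u} where
  obj U := CommRingCat.of (PR (I.ideal (af U.unop)))
  map {U V} i := CommRingCat.ofHom (PRmap (T.presheaf.map
    (homOfLE (Scheme.AffineZariskiSite.toOpens_mono i.unop.le)).op).hom (res_mem I i.unop))
  map_id U := by
    refine CommRingCat.hom_ext (RingHom.ext fun x => Subtype.ext (Prod.ext ?_ ?_))
    · change (T.presheaf.map (𝟙 _)).hom x.1.1 = x.1.1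
      rw [CategoryTheory.Functor.map_id]
      rfl
    · change (T.presheaf.map (𝟙 _)).hom x.1.2 = x.1.2
      rw [CategoryTheory.Functor.map_id]
      rfl
  map_comp {U V W} i j := by
    refine CommRingCat.hom_ext (RingHom.ext fun x => Subtype.ext (Prod.ext ?_ ?_))
    · change (T.presheaf.map ((homOfLE (Scheme.AffineZariskiSite.toOpens_mono i.unop.le)).op ≫
        (homOfLE (Scheme.AffineZariskiSite.toOpens_mono j.unop.le)).op)).hom x.1.1 = _
      rw [Functor.map_comp]
      rfl
    · change (T.presheaf.map ((homOfLE (Scheme.AffineZariskiSite.toOpens_mono i.unop.le)).op ≫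
        (homOfLE (Scheme.AffineZariskiSite.toOpens_mono j.unop.le)).op)).hom x.1.2 = _
      rw [Functor.map_comp]
      rfl

/-- structure map -/
def α : (Scheme.AffineZariskiSite.toOpensFunctor T).op ⋙ T.presheaf ⟶ F I where
  app U := CommRingCat.ofHom (dg (I.ideal (af U.unop)))
  naturality _ _ _ := rfl

theorem coeq : (α I).Coequifibered := by
  rw [Scheme.AffineZariskiSite.coequifibered_iff_forall_isLocalizationAway]
  intro U f
  refine isLocalization_PRmap (T.presheaf.map (homOfLE (T.basicOpen_le f)).op).hom f ?_ ?_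
    (res_mem I (homOfLE (U.basicOpen_le f)))
  · exact U.2.isLocalization_basicOpen f
  · exact I.map_ideal_basicOpen (af U) f

/-- the pinching -/
noncomputable def P : Scheme.{u} := RelSpec.obj (coeq I)

/-- its structure morphism -/
noncomputable def π : P I ⟶ T := RelSpec.toBase (coeq I)

instance : IsAffineHom (π I) := inferInstanceAs (IsAffineHom (RelSpec.toBase (coeq I)))

variable {I} in
/-- charts -/
noncomputable def ι {V : T.Opens} (hV : IsAffineOpen V) : Spec (CommRingCat.of (PR (I.ideal ⟨V, hV⟩))) ⟶ P I :=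
  RelSpec.ι (coeq I) (⟨V, hV⟩ : T.AffineZariskiSite)

theorem isPullback_ι {V : T.Opens} (hV : IsAffineOpen V) :
    IsPullback (ι (I := I) hV) (Spec.map (CommRingCat.ofHom (dg (I.ideal ⟨V, hV⟩)))) (π I) hV.fromSpec :=
  RelSpec.isPullback_ι (coeq I) (⟨V, hV⟩ : T.AffineZariskiSite)

/-- data of the first section -/
def dσ : RelSpec.LiftData (α I) (𝟙 T) where
  ψ U := CommRingCat.ofHom (p₁ (I.ideal (af U)))
  nat _ := rfl
  comp _ := rfl

/-- data of the second section -/
def dτ : RelSpec.LiftData (α I) (𝟙 T) where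
  ψ U := CommRingCat.ofHom (p₂ (I.ideal (af U)))
  nat _ := rfl
  comp _ := rfl

/-- the first section -/
noncomputable def σ : T ⟶ P I := RelSpec.lift (coeq I) (dσ I)

/-- the second section -/
noncomputable def τ : T ⟶ P I := RelSpec.lift (coeq I) (dτ I)

@[reassoc (attr := simp)]
theorem σ_π : σ I ≫ π I = 𝟙 T := RelSpec.lift_toBase (coeq I) (dσ I)

@[reassoc (attr := simp)]
theorem τ_π : τ I ≫ π I = 𝟙 T := RelSpec.lift_toBase (coeq I) (dτ I)

theorem ι_σ {V : T.Opens} (hV : IsAffineOpen V) :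
    V.ι ≫ σ I = V.toSpecΓ ≫ Spec.map (CommRingCat.ofHom (p₁ (I.ideal ⟨V, hV⟩))) ≫ ι (I := I) hV :=
  RelSpec.ι_lift (coeq I) (dσ I) (⟨V, hV⟩ : T.AffineZariskiSite)

theorem ι_τ {V : T.Opens} (hV : IsAffineOpen V) :
    V.ι ≫ τ I = V.toSpecΓ ≫ Spec.map (CommRingCat.ofHom (p₂ (I.ideal ⟨V, hV⟩))) ≫ ι (I := I) hV :=
  RelSpec.ι_lift (coeq I) (dτ I) (⟨V, hV⟩ : T.AffineZariskiSite)

theorem fromSpec_σ {V : T.Opens} (hV : IsAffineOpen V) :
    hV.fromSpec ≫ σ I = Spec.map (CommRingCat.ofHom (p₁ (I.ideal ⟨V, hV⟩))) ≫ ι (I := I) hV := by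
  have h := ι_σ I hV
  rw [← cancel_epi hV.isoSpec.hom, IsAffineOpen.isoSpec_hom]
  rw [← Category.assoc, IsAffineOpen.toSpecΓ_fromSpec, h]

theorem fromSpec_τ {V : T.Opens} (hV : IsAffineOpen V) :
    hV.fromSpec ≫ τ I = Spec.map (CommRingCat.ofHom (p₂ (I.ideal ⟨V, hV⟩))) ≫ ι (I := I) hV := by
  have h := ι_τ I hV
  rw [← cancel_epi hV.isoSpec.hom, IsAffineOpen.isoSpec_hom]
  rw [← Category.assoc, IsAffineOpen.toSpecΓ_fromSpec, h]

end Scheme

end K186.Pinch
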