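import Groth.Agent.BigSite.K186.BCAlg
import Groth.Agent.CGrpSh.K186.Pinch
import Groth.Agent.TateLoc.K809.KerDer
import Mathlib.RingTheory.Smooth.Kaehler

/-!
# Base change of infinitesimal ideals and of derivations with values in them

`Dt a B S`: the `A`-algebra `S` is the base change to `B` of the algebra `PR a` of pairs of elements of `A` which agree
modulo `a`, with its two retractions `s`, `t` onto `B`.  `J = ker s = B ⊗_A a`, `t : J ⟶ aB` is bijective for flat `B`,
and `Der_A(E, J)` commutes with base change if `E` is smooth over `A`.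
-/

set_option autoImplicit false
set_option linter.style.haveILetI false
set_option linter.unusedSectionVars false

open TensorProduct Groth.Agent.Etbase.FFExact K186.BCAlg K186.Pinch K809.KerGrp

namespace K186.RD

universe u

section Retract

variable {A B : Type*} [CommRing A] [CommRing B] {M M' N N' : Type*} [AddCommGroup M] [AddCommGroup M']
  [AddCommGroup N] [AddCommGroup N'] [Module A M] [Module A M'] [Module B N] [Module B N']

/-- Direct summands of base changes are base changes. -/
theorem of_retract {φ : A →+* B} {f' : M' →+ N'} (hf' : IsBC φ f') (i : M →ₗ[A] M') (r : M' →ₗ[A] M)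
    (hri : ∀ m, r (i m) = m) (j : N →ₗ[B] N') (s : N' →ₗ[B] N) (hsj : ∀ n, s (j n) = n) (f : M →+ N)
    (h1 : ∀ m, j (f m) = f' (i m)) (h2 : ∀ m', s (f' m') = f (r m')) : IsBC φ f := by
  letI : Algebra A B := φ.toAlgebra
  have hf : ∀ (a : A) (m : M), f (a • m) = φ a • f m := fun a m => by
    rw [← hsj (f (a • m)), h1, map_smul, hf'.1 a, ← h1, map_smul, hsj]
  have hκ := exists_isBC φ M
  obtain ⟨θ, hθ1, hθ2⟩ := exists_lift (ψ := RingHom.id B) hκ f hf
  obtain ⟨k, hk1, hk2⟩ := exists_lift (ψ := RingHom.id B) hf'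
    (((TensorProduct.mk A B M 1).toAddMonoidHom : M →+ B ⊗[A] M).comp r.toAddMonoidHom)
    (fun a m => by
      change (1 : B) ⊗ₜ[A] (r (a • m)) = φ a • ((1 : B) ⊗ₜ[A] (r m))
      rw [map_smul]
      exact hκ.1 a (r m))
  have e1 : (k.comp j.toAddMonoidHom).comp θ = AddMonoidHom.id _ := by
    refine hom_ext (ψ := RingHom.id B) hκ (fun b n => ?_) (fun b n => rfl) fun m => ?_
    · change k (j (θ (b • n))) = b • k (j (θ n))
      rw [hθ1, map_smul]
      exact hk1 b _
    · change k (j (θ _)) = _
      rw [hθ2, h1, hk2]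
      change (1 : B) ⊗ₜ[A] (r (i m)) = _
      rw [hri]
      rfl
  have e2 : θ.comp k = s.toAddMonoidHom := by
    refine hom_ext (ψ := RingHom.id B) hf' (fun b n => ?_) (fun b n => map_smul s b n) fun m => ?_
    · change θ (k (b • n)) = b • θ (k n)
      rw [hk1]
      exact hθ1 b _
    · change θ (k (f' m)) = s (f' m)
      rw [hk2, h2]
      exact hθ2 (r m)
  let θ' : B ⊗[A] M →ₗ[B] N := { toFun := θ, map_add' := θ.map_add, map_smul' := hθ1 }
  refine of_bijective hκ θ' ⟨fun x y hxy => ?_, fun n => ⟨k (j n), ?_⟩⟩ hθ2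
  · have h3 := DFunLike.congr_fun e1 x
    have h4 := DFunLike.congr_fun e1 y
    change k (j (θ x)) = x at h3
    change k (j (θ y)) = y at h4
    rw [← h3, ← h4]
    exact congrArg (fun z => k (j z)) hxy
  · exact (DFunLike.congr_fun e2 (j n)).trans (hsj n)

/-- Ideals stay submodules after flat base change. -/
theorem inj_of_flat {A B : Type u} [CommRing A] [CommRing B] {φ : A →+* B} (hφ : φ.Flat) {a : Ideal A} {J : Type u}
    [AddCommGroup J] [Module B J] {κ : a →+ J} (hκ : IsBC φ κ) (t : J →ₗ[B] B) (ht : ∀ i, t (κ i) = φ i.1) :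
    Function.Injective t := by
  letI : Algebra A B := φ.toAlgebra
  haveI : Module.Flat A B := hφ
  obtain ⟨e, he⟩ := exists_equiv hκ
  have hinj : Function.Injective (LinearMap.lTensor B (Submodule.subtype (a : Submodule A A))) :=
    Module.Flat.lTensor_preserves_injective_linearMap _ (Submodule.subtype_injective _)
  have h2 : ∀ z : B ⊗[A] a, t (e z) = TensorProduct.rid A B (LinearMap.lTensor B (Submodule.subtype a) z) := by
    intro z
    induction z using TensorProduct.induction_on with
    | zero => rw [map_zero, map_zero, map_zero]; exact (map_zero _).symm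
    | tmul b i =>
      rw [he, LinearMap.lTensor_tmul, TensorProduct.rid_tmul, map_smul, ht, Algebra.smul_def, mul_comm]
      rfl
    | add x y hx hy =>
      rw [map_add, map_add, map_add, hx, hy]
      exact (map_add _ _ _).symm
  intro x y hxy
  obtain ⟨x, rfl⟩ := e.surjective x
  obtain ⟨y, rfl⟩ := e.surjective y
  rw [h2, h2] at hxy
  rw [hinj ((TensorProduct.rid A B).injective hxy)]

end Retract

section Ring

variable {A : Type u} [CommRing A] (a : Ideal A) (B S : Type u) [CommRing B] [Algebra A B] [CommRing S] [Algebra A S]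

/-- `S` is the base change to `B` of the algebra of pairs which agree modulo `a`. -/
structure Dt where
  /-- the structure map -/
  β : B →ₐ[A] S
  /-- the first retraction -/
  s : S →ₐ[A] B
  /-- the second retraction -/
  t : S →ₐ[A] B
  sβ : ∀ b, s (β b) = b
  tβ : ∀ b, t (β b) = b
  /-- the map from the algebra over `A` -/
  ψ : PR a →+* S
  sψ : ∀ z, s (ψ z) = algebraMap A B (p₁ a z)
  tψ : ∀ z, t (ψ z) = algebraMap A B (p₂ a z)
  push : Push (dg a) (algebraMap A B) ψ β.toRingHom

variable {a}

/-- `(0, i)` -/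
def el (i : a) : PR a := ⟨(0, i.1), by
  change (0 : A) - i.1 ∈ a
  rw [zero_sub]
  exact a.neg_mem i.2⟩

variable {B S} (D : Dt a B S)

/-- the ideal -/
def Dt.J : Ideal S := RingHom.ker D.s

lemma Dt.mem_J {x : S} : x ∈ D.J ↔ D.s x = 0 := Iff.rfl

/-- `J` as a module over `B` -/
abbrev Dt.modJ : Module B D.J := Module.compHom D.J D.β.toRingHom

/-- `a → J` -/
def Dt.κ : a →+ D.J where
  toFun i := ⟨D.ψ (el i), by
    rw [Dt.mem_J, D.sψ]
    exact map_zero _⟩
  map_zero' := Subtype.ext ((congrArg D.ψ (Subtype.ext rfl : el (0 : a) = 0)).trans (map_zero _))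
  map_add' i i' := Subtype.ext ((congrArg D.ψ (Subtype.ext (Prod.ext (add_zero 0).symm rfl) :
    el (i + i') = el i + el i')).trans (map_add _ _ _))

lemma Dt.ψ_dg (x : A) : D.ψ (dg a x) = D.β (algebraMap A B x) :=
  DFunLike.congr_fun D.push.comm x

/-- `J = B ⊗_A a` -/
theorem Dt.bcJ : letI := D.modJ; IsBC (algebraMap A B) D.κ := by
  letI := D.modJ
  letI i1 : Module A (PR a) := Module.compHom (PR a) (dg a)
  letI i2 : Module B S := Module.compHom S D.β.toRingHom
  have hp : IsBC (algebraMap A B) D.ψ.toAddMonoidHom := D.push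
  let i : a →ₗ[A] PR a :=
    { toFun := el
      map_add' := fun x y => Subtype.ext (Prod.ext (add_zero 0).symm rfl)
      map_smul' := fun c x => Subtype.ext (Prod.ext (mul_zero c).symm rfl) }
  let r : PR a →ₗ[A] a :=
    { toFun := fun z => ⟨z.1.2 - z.1.1, by
        rw [← neg_sub]
        exact a.neg_mem z.2⟩
      map_add' := fun x y => Subtype.ext (by
        change x.1.2 + y.1.2 - (x.1.1 + y.1.1) = (x.1.2 - x.1.1) + (y.1.2 - y.1.1)
        ring)
      map_smul' := fun c x => Subtype.ext (by
        change c * x.1.2 - c * x.1.1 = c * (x.1.2 - x.1.1)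
        ring) }
  let j : D.J →ₗ[B] S :=
    { toFun := Subtype.val
      map_add' := fun _ _ => rfl
      map_smul' := fun _ _ => rfl }
  let s' : S →ₗ[B] D.J :=
    { toFun := fun x => ⟨x - D.β (D.s x), by
        rw [Dt.mem_J, map_sub, D.sβ, sub_self]⟩
      map_add' := fun x y => Subtype.ext (by
        change x + y - D.β (D.s (x + y)) = (x - D.β (D.s x)) + (y - D.β (D.s y))
        rw [map_add, map_add]
        ring)
      map_smul' := fun b x => Subtype.ext (by
        change D.β b * x - D.β (D.s (D.β b * x)) = D.β b * (x - D.β (D.s x))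
        rw [map_mul, map_mul, D.sβ]
        ring) }
  refine of_retract hp i r (fun m => Subtype.ext (sub_zero _)) j s' (fun n => Subtype.ext ?_) D.κ (fun m => rfl)
    (fun z => Subtype.ext ?_)
  · have h := n.2
    rw [Dt.mem_J] at h
    change n.1 - D.β (D.s n.1) = n.1
    rw [h, map_zero, sub_zero]
  · change D.ψ z - D.β (D.s (D.ψ z)) = D.ψ (el (r z))
    rw [D.sψ, ← D.ψ_dg, ← map_sub]
    congr 1
    exact Subtype.ext (Prod.ext (sub_self z.1.1) rfl)

lemma Dt.span_induction {p : S → Prop} (h0 : p 0) (hadd : ∀ x y, p x → p y → p (x + y))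
    (h : ∀ (b : B) (i : a), p (D.β b * D.ψ (el i))) : ∀ x ∈ D.J, p x := by
  letI := D.modJ
  intro x hx
  have h1 := mem_span D.bcJ ⟨x, hx⟩
  suffices ∀ y : D.J, y ∈ Submodule.span B (Set.range D.κ) → ∀ b : B, p (D.β b * y.1) by
    have h2 := this _ h1 1
    rwa [map_one, one_mul] at h2
  intro y hy
  induction hy using Submodule.span_induction with
  | mem y hy =>
    obtain ⟨i, rfl⟩ := hy
    exact fun b => h b i
  | zero => intro b; rw [show ((0 : D.J) : S) = 0 from rfl, mul_zero]; exact h0
  | add x y _ _ hx hy =>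
    intro b
    rw [show ((x + y : D.J) : S) = x.1 + y.1 from rfl, mul_add]
    exact hadd _ _ (hx b) (hy b)
  | smul c x _ hx =>
    intro b
    rw [show ((c • x : D.J) : S) = D.β c * x.1 from rfl, ← mul_assoc, ← map_mul]
    exact hx _

theorem Dt.sqJ (ha : ∀ x ∈ a, ∀ y ∈ a, x * y = 0) : ∀ x ∈ D.J, ∀ y ∈ D.J, x * y = 0 := by
  have h0 : ∀ i i' : a, D.ψ (el i) * D.ψ (el i') = 0 := fun i i' => by
    rw [← map_mul]
    have : el i * el i' = 0 := Subtype.ext (Prod.ext (mul_zero 0) (ha _ i.2 _ i'.2))
    rw [this, map_zero]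
  have h1 : ∀ i : a, ∀ x ∈ D.J, x * D.ψ (el i) = 0 := fun i =>
    D.span_induction (zero_mul _) (fun x y hx hy => by rw [add_mul, hx, hy, add_zero])
      (fun b i' => by rw [mul_assoc, h0, mul_zero])
  intro x hx
  exact D.span_induction (mul_zero _) (fun y z hy hz => by rw [mul_add, hy, hz, add_zero])
    (fun b i => by
      have := h1 i x hx
      rw [mul_comm (D.β b), ← mul_assoc, this, zero_mul])

/-- The image of `J` under the second retraction. -/
theorem Dt.t_mem : ∀ x ∈ D.J, D.t x ∈ a.map (algebraMap A B) :=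
  D.span_induction (p := fun x => D.t x ∈ a.map (algebraMap A B)) (by rw [map_zero]; exact Ideal.zero_mem _)
    (fun x y hx hy => by rw [map_add]; exact Ideal.add_mem _ hx hy)
    (fun b i => by
      rw [map_mul, D.tβ, D.tψ]
      exact Ideal.mul_mem_left _ _ (Ideal.mem_map_of_mem _ i.2))

theorem Dt.exists_t (y : B) (hy : y ∈ a.map (algebraMap A B)) : ∃ x ∈ D.J, D.t x = y := by
  rw [Ideal.map] at hy
  induction hy using Submodule.span_induction with
  | mem y hy =>
    obtain ⟨i, hi, rfl⟩ := hy
    exact ⟨(D.κ ⟨i, hi⟩).1, (D.κ ⟨i, hi⟩).2, D.tψ _⟩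
  | zero => exact ⟨0, Ideal.zero_mem _, map_zero _⟩
  | add y z _ _ hy hz =>
    obtain ⟨x, hx, rfl⟩ := hy
    obtain ⟨x', hx', rfl⟩ := hz
    exact ⟨x + x', Ideal.add_mem _ hx hx', map_add _ _ _⟩
  | smul c y _ hy =>
    obtain ⟨x, hx, rfl⟩ := hy
    refine ⟨D.β c * x, Ideal.mul_mem_left _ _ hx, ?_⟩
    rw [map_mul, D.tβ]
    rfl

theorem Dt.t_injective (hfl : (algebraMap A B).Flat) (x : S) (hx : x ∈ D.J) (h : D.t x = 0) : x = 0 := by
  letI := D.modJ
  let t : D.J →ₗ[B] B :=
    { toFun := fun x => D.t x.1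
      map_add' := fun x y => map_add _ _ _
      map_smul' := fun b x => by
        change D.t (D.β b * x.1) = b * D.t x.1
        rw [map_mul, D.tβ] }
  have h1 := inj_of_flat hfl D.bcJ t (fun i => D.tψ _)
  have h2 : t ⟨x, hx⟩ = t 0 := h.trans (map_zero t).symm
  exact congrArg Subtype.val (h1 h2)

variable {B' S' : Type u} [CommRing B'] [Algebra A B'] [CommRing S'] [Algebra A S'] (D' : Dt a B' S')

/-- maps of data -/
structure Hom (D : Dt a B S) (D' : Dt a B' S') where
  /-- on `B` -/
  g : B →ₐ[A] B'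
  /-- on `S` -/
  h : S →ₐ[A] S'
  hβ : ∀ b, h (D.β b) = D'.β (g b)
  hs : ∀ x, D'.s (h x) = g (D.s x)
  hψ : ∀ z, h (D.ψ z) = D'.ψ z

variable {D D'} (m : Hom D D')

lemma Hom.mem (x : S) (hx : x ∈ D.J) : m.h x ∈ D'.J := by
  rw [Dt.mem_J] at hx ⊢
  rw [m.hs, hx, map_zero]

/-- the map `J → J'` -/
def Hom.J : D.J →+ D'.J where
  toFun x := ⟨m.h x.1, m.mem x.1 x.2⟩
  map_zero' := Subtype.ext (map_zero _)
  map_add' _ _ := Subtype.ext (map_add _ _ _)

theorem Hom.bcJ : letI := D.modJ; letI := D'.modJ; IsBC m.g.toRingHom m.J := by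
  letI := D.modJ
  letI := D'.modJ
  refine of_comp D.bcJ (fun b x => Subtype.ext ?_) ?_
  · change m.h (D.β b * x.1) = D'.β (m.g b) * m.h x.1
    rw [map_mul, m.hβ]
  · have e1 : m.g.toRingHom.comp (algebraMap A B) = algebraMap A B' := m.g.comp_algebraMap
    have e2 : m.J.comp D.κ = D'.κ := by
      ext i
      exact m.hψ _
    rw [e1, e2]
    exact D'.bcJ

end Ring

section Coord

variable {A E : Type u} [CommRing A] [CommRing E] [Algebra A E]

/-- Coordinates: derivations out of a smooth algebra. -/
theorem exists_coord [Algebra.Smooth A E] : ∃ (n : ℕ) (x : Fin n → E) (c : Fin n → Derivation A E E),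
    ∀ (M : Type u) [AddCommGroup M] [Module A M] [Module E M] [IsScalarTower A E M] (D : Derivation A E M) (y : E),
      D y = ∑ k, c k y • D (x k) := by
  classical
  have hfg : (⊤ : Submodule E (Ω[E⁄A])).FG := Module.Finite.fg_top
  have hspan : Submodule.span E (Set.range (KaehlerDifferential.D A E)) = ⊤ := KaehlerDifferential.span_range_derivation A E
  rw [← hspan, Submodule.fg_span_iff_fg_span_finset_subset] at hfg
  obtain ⟨s, hs, hs2⟩ := hfg
  rw [hspan] at hs2
  choose y hy using fun k : s => hs k.2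
  let x : Fin s.card → E := fun k => y (s.equivFin.symm k)
  have hx : ∀ k, KaehlerDifferential.D A E (x k) = (s.equivFin.symm k).1 := fun k => hy _
  let p : (Fin s.card → E) →ₗ[E] Ω[E⁄A] := Fintype.linearCombination E (fun k => KaehlerDifferential.D A E (x k))
  have hp : Function.Surjective p := by
    rw [← LinearMap.range_eq_top, Fintype.range_linearCombination, hs2]
    congr 1
    ext ω
    constructor
    · rintro ⟨k, rfl⟩
      simp only [hx]
      exact (s.equivFin.symm k).2
    · intro hω
      refine ⟨s.equivFin ⟨ω, hω⟩, ?_⟩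
      simp only [hx, Equiv.symm_apply_apply]
  obtain ⟨l, hl⟩ := Module.projective_lifting_property p LinearMap.id hp
  refine ⟨s.card, x, fun k => ((LinearMap.proj k).comp l).compDer (KaehlerDifferential.D A E), fun M _ _ _ _ D y => ?_⟩
  have h1 : ∀ ω, D.liftKaehlerDifferential ω = ∑ k, (l ω k) • D (x k) := by
    intro ω
    have h2 := DFunLike.congr_fun hl ω
    change p (l ω) = ω at h2
    conv_lhs => rw [← h2]
    rw [Fintype.linearCombination_apply, map_sum]
    refine Finset.sum_congr rfl fun k _ => ?_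
    rw [map_smul, Derivation.liftKaehlerDifferential_comp_D]
  have h3 := h1 (KaehlerDifferential.D A E y)
  rw [Derivation.liftKaehlerDifferential_comp_D] at h3
  exact h3

variable {S : Type u} [CommRing S] [Algebra A S] {ε : E →ₐ[A] A} {J : Ideal S}

/-- Coordinates of derivations along `ε`. -/
theorem der_coord {n : ℕ} {x : Fin n → E} {c : Fin n → Derivation A E E}
    (hc : ∀ (M : Type u) [AddCommGroup M] [Module A M] [Module E M] [IsScalarTower A E M] (D : Derivation A E M) (y : E),
      D y = ∑ k, c k y • D (x k)) (D : Der ε J) (y : E) : D.1 y = ∑ k, ε (c k y) • D.1 (x k) := by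
  letI : Module E S := Module.compHom S ((algebraMap A S).comp ε.toRingHom)
  have hsm : ∀ (e : E) (m : S), e • m = ε e • m := fun e m => (Algebra.smul_def _ _).symm
  haveI : IsScalarTower A E S := ⟨fun a e m => by
    rw [hsm, hsm, map_smul, smul_assoc]⟩
  let D' : Derivation A E S :=
    { toLinearMap := D.1
      map_one_eq_zero' := Der.map_one D.2
      leibniz' := fun y z => by
        rw [hsm, hsm]
        exact D.2.2 y z }
  exact (hc S D' y).trans (Finset.sum_congr rfl fun k _ => hsm _ _)

/-- The derivation with given coordinates. -/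
noncomputable def rDer (ε : E →ₐ[A] A) (J : Ideal S) {n : ℕ} (c : Fin n → Derivation A E E) (v : Fin n → J) : Der ε J :=
  ⟨∑ k, (ε.toLinearMap.comp (c k : E →ₗ[A] E)).smulRight (v k).1, by
    have h : ∀ y, (∑ k, (ε.toLinearMap.comp (c k : E →ₗ[A] E)).smulRight (v k).1) y = ∑ k, ε (c k y) • (v k).1 := by
      intro y
      rw [LinearMap.sum_apply]
      rfl
    refine ⟨fun y => ?_, fun y z => ?_⟩
    · rw [h]
      refine J.sum_mem fun k _ => ?_
      rw [Algebra.smul_def]
      exact J.mul_mem_left _ (v k).2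
    · rw [h, h, h, Finset.smul_sum, Finset.smul_sum, ← Finset.sum_add_distrib]
      refine Finset.sum_congr rfl fun k _ => ?_
      rw [Derivation.leibniz, smul_eq_mul, smul_eq_mul, map_add, map_mul, map_mul, add_smul, mul_smul, mul_smul]⟩

lemma rDer_apply {n : ℕ} (c : Fin n → Derivation A E E) (v : Fin n → J) (y : E) :
    (rDer ε J c v).1 y = ∑ k, ε (c k y) • (v k).1 := by
  change (∑ k, (ε.toLinearMap.comp (c k : E →ₗ[A] E)).smulRight (v k).1) y = _
  rw [LinearMap.sum_apply]
  rfl

lemma rDer_coord {n : ℕ} {x : Fin n → E} {c : Fin n → Derivation A E E}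
    (hc : ∀ (M : Type u) [AddCommGroup M] [Module A M] [Module E M] [IsScalarTower A E M] (D : Derivation A E M) (y : E),
      D y = ∑ k, c k y • D (x k)) (D : Der ε J) : rDer ε J c (fun k => ⟨D.1 (x k), D.2.1 _⟩) = D := by
  refine Subtype.ext (LinearMap.ext fun y => ?_)
  rw [rDer_apply, der_coord hc D y]

/-- multiplication of derivations by functions -/
def mulDer (s : S) (D : Der ε J) : Der ε J :=
  ⟨(LinearMap.mulLeft A s).comp D.1, fun x => J.mul_mem_left _ (D.2.1 x), fun x y => by
    change s * D.1 (x * y) = ε x • (s * D.1 y) + ε y • (s * D.1 x)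
    rw [D.2.2, mul_add, mul_smul_comm, mul_smul_comm]⟩

lemma mulDer_apply (s : S) (D : Der ε J) (x : E) : (mulDer s D).1 x = s * D.1 x := rfl

end Coord

section BC

variable {A : Type u} [CommRing A] {a : Ideal A} {B S : Type u} [CommRing B] [Algebra A B] [CommRing S] [Algebra A S]
  {B' S' : Type u} [CommRing B'] [Algebra A B'] [CommRing S'] [Algebra A S'] {D : Dt a B S} {D' : Dt a B' S'}
  (m : Hom D D') {E : Type u} [CommRing E] [Algebra A E] {ε : E →ₐ[A] A}

/-- `J` as a module over the lifted ring -/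
abbrev Dt.modU (D : Dt a B S) : Module (ULift.{u + 1} B) D.J :=
  Module.compHom D.J (D.β.toRingHom.comp (ULift.ringEquiv.toRingHom : ULift.{u + 1} B →+* B))

theorem Hom.bcU : letI := D.modU; letI := D'.modU; IsBC (ulr m.g.toRingHom) m.J := by
  letI := D.modJ
  letI := D'.modJ
  letI := D.modU
  letI := D'.modU
  have h1 : IsBC (ULift.ringEquiv.toRingHom : ULift.{u + 1} B →+* B) (AddMonoidHom.id D.J) :=
    isBC_of_bijective ULift.ringEquiv.bijective _ Function.bijective_id (fun a m => rfl)
  have h2 : IsBC (ULift.ringEquiv.symm.toRingHom : B' →+* ULift.{u + 1} B') (AddMonoidHom.id D'.J) :=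
    isBC_of_bijective ULift.ringEquiv.symm.bijective _ Function.bijective_id (fun a m => rfl)
  exact comp (comp h1 m.bcJ) h2

/-- Base change of modules of derivations. -/
theorem bc_der [Algebra.Smooth A E] {X X' : Type (u + 1)} [AddCommGroup X] [AddCommGroup X'] [Module (ULift.{u + 1} B) X]
    [Module (ULift.{u + 1} B') X'] (e : Der ε D.J ≃+ X) (e' : Der ε D'.J ≃+ X')
    (he : ∀ (b : B) (δ : Der ε D.J), e (mulDer (D.β b) δ) = ULift.up b • e δ)
    (he' : ∀ (b : B') (δ : Der ε D'.J), e' (mulDer (D'.β b) δ) = ULift.up b • e' δ)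
    (F : X →+ X') (hF : ∀ δ : Der ε D.J, F (e δ) = e' ⟨m.h.toLinearMap.comp δ.1, comp_mem _ m.mem δ.2⟩) :
    IsBC (ulr m.g.toRingHom) F := by
  obtain ⟨n, x, c, hc⟩ := exists_coord (A := A) (E := E)
  letI := D.modU
  letI := D'.modU
  have h0 := K186.BCAlg.pi (φ := ulr m.g.toRingHom) (fun _ : Fin n => m.J) (fun _ => m.bcU)
  have hs : ∀ (b : ULift.{u + 1} B) (y : X), e.symm (b • y) = mulDer (D.β b.down) (e.symm y) := by
    intro b y
    apply e.injective
    rw [e.apply_symm_apply, he, e.apply_symm_apply]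
  have hs' : ∀ (b : ULift.{u + 1} B') (y : X'), e'.symm (b • y) = mulDer (D'.β b.down) (e'.symm y) := by
    intro b y
    apply e'.injective
    rw [e'.apply_symm_apply, he', e'.apply_symm_apply]
  let i : X →ₗ[ULift.{u + 1} B] (Fin n → D.J) :=
    { toFun := fun y k => ⟨(e.symm y).1 (x k), (e.symm y).2.1 _⟩
      map_add' := fun y z => funext fun k => Subtype.ext (by
        change (e.symm (y + z)).1 (x k) = (e.symm y).1 (x k) + (e.symm z).1 (x k)
        rw [map_add]
        rfl)
      map_smul' := fun b y => funext fun k => Subtype.ext (by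
        change (e.symm (b • y)).1 (x k) = D.β b.down * (e.symm y).1 (x k)
        rw [hs]
        rfl) }
  let i' : X' →ₗ[ULift.{u + 1} B'] (Fin n → D'.J) :=
    { toFun := fun y k => ⟨(e'.symm y).1 (x k), (e'.symm y).2.1 _⟩
      map_add' := fun y z => funext fun k => Subtype.ext (by
        change (e'.symm (y + z)).1 (x k) = (e'.symm y).1 (x k) + (e'.symm z).1 (x k)
        rw [map_add]
        rfl)
      map_smul' := fun b y => funext fun k => Subtype.ext (by
        change (e'.symm (b • y)).1 (x k) = D'.β b.down * (e'.symm y).1 (x k)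
        rw [hs']
        rfl) }
  let r : (Fin n → D.J) →ₗ[ULift.{u + 1} B] X :=
    { toFun := fun v => e (rDer ε D.J c v)
      map_add' := fun v w => by
        rw [← map_add]
        congr 1
        refine Subtype.ext (LinearMap.ext fun y => ?_)
        change (rDer ε D.J c (v + w)).1 y = (rDer ε D.J c v).1 y + (rDer ε D.J c w).1 y
        rw [rDer_apply, rDer_apply, rDer_apply, ← Finset.sum_add_distrib]
        exact Finset.sum_congr rfl fun k _ => smul_add _ _ _
      map_smul' := fun b v => by
        rw [RingHom.id_apply, show b = ULift.up b.down from rfl, ← he]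
        congr 1
        refine Subtype.ext (LinearMap.ext fun y => ?_)
        rw [mulDer_apply, rDer_apply, rDer_apply, Finset.mul_sum]
        refine Finset.sum_congr rfl fun k _ => ?_
        exact (mul_smul_comm _ _ _).symm }
  let r' : (Fin n → D'.J) →ₗ[ULift.{u + 1} B'] X' :=
    { toFun := fun v => e' (rDer ε D'.J c v)
      map_add' := fun v w => by
        rw [← map_add]
        congr 1
        refine Subtype.ext (LinearMap.ext fun y => ?_)
        change (rDer ε D'.J c (v + w)).1 y = (rDer ε D'.J c v).1 y + (rDer ε D'.J c w).1 y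
        rw [rDer_apply, rDer_apply, rDer_apply, ← Finset.sum_add_distrib]
        exact Finset.sum_congr rfl fun k _ => smul_add _ _ _
      map_smul' := fun b v => by
        rw [RingHom.id_apply, show b = ULift.up b.down from rfl, ← he']
        congr 1
        refine Subtype.ext (LinearMap.ext fun y => ?_)
        rw [mulDer_apply, rDer_apply, rDer_apply, Finset.mul_sum]
        refine Finset.sum_congr rfl fun k _ => ?_
        exact (mul_smul_comm _ _ _).symm }
  refine of_retract h0 i r (fun y => ?_) i' r' (fun y => ?_) F (fun y => ?_) (fun v => ?_)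
  · change e (rDer ε D.J c (fun k => ⟨(e.symm y).1 (x k), (e.symm y).2.1 _⟩)) = y
    rw [rDer_coord hc, e.apply_symm_apply]
  · change e' (rDer ε D'.J c (fun k => ⟨(e'.symm y).1 (x k), (e'.symm y).2.1 _⟩)) = y
    rw [rDer_coord hc, e'.apply_symm_apply]
  · obtain ⟨δ, rfl⟩ := e.surjective y
    funext k
    refine Subtype.ext ?_
    change (e'.symm (F (e δ))).1 (x k) = m.h ((e.symm (e δ)).1 (x k))
    rw [hF, e'.symm_apply_apply, e.symm_apply_apply]
    rfl
  · change e' (rDer ε D'.J c (fun k => m.J (v k))) = F (e (rDer ε D.J c v))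
    rw [hF]
    congr 1
    refine Subtype.ext (LinearMap.ext fun y => ?_)
    rw [rDer_apply]
    change _ = m.h ((rDer ε D.J c v).1 y)
    rw [rDer_apply, map_sum]
    refine Finset.sum_congr rfl fun k _ => ?_
    rw [map_smul]
    rfl

end BC

end K186.RD
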